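import Groth.Agent.RelPC13.BC.Core
import Groth.Agent.CohCore23.FlatPushBC
import Groth.Agent.KFlatLib.Scheme.RpushUnbounded
import Groth.Agent.KFlatLib.Scheme.AffineConservative
import Groth.Agent.FMX.Derived
import Groth.Agent.H9Misc.FinDimDerived
import Groth.Agent.PerfD40.AdjOpen
import Groth.Prelude.Def_DCoh3

/-! # Flat base change for derived direct images -/

set_option linter.style.haveILetI false
set_option backward.isDefEq.respectTransparency false
set_option backward.isDefEq.respectTransparency.types false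

universe u

open CategoryTheory CategoryTheory.Limits AlgebraicGeometry TopologicalSpace Opposite Pretriangulated
open scoped TensorProduct

attribute [local instance] HasDerivedCategory.standard

noncomputable section

namespace Groth.Agent.RelPC13.BC

open Groth.Agent.KFlatLib Groth.Agent.CohCore23.BC

theorem bijective_congr {α β : Type*} {p q : α → β} (hp : Function.Bijective p) (h : ∀ x, p x = q x) :
    Function.Bijective q := by
  rwa [show q = p from funext fun x => (h x).symm]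

theorem additive_lpull {X Y : Scheme.{u}} (f : X ⟶ Y) [DCoh.HasLpull f] [DCoh.HasRpush f] :
    (DCoh.Lpull f).Additive := by
  haveI : (DCoh.Rpush f).Additive :=
    (exists_rightDerived_triangle (Scheme.Modules.pushforward f) _
      (contractible_distinguished (DCoh.inD X (Coh.structureModule X)))).1
  exact (nonempty_lpull_rpush_adj f).some.left_adjoint_additive

/-- For a flat map the derived pullback is the pullback. -/
theorem nonempty_lpull_iso_pullD {X X' : Scheme.{u}} (g : X' ⟶ X) [DCoh.HasLpull g]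
    [PreservesFiniteLimits (Scheme.Modules.pullback g)] : Nonempty (DCoh.Lpull g ≅ pullD g) := by
  let W := HomotopyCategory.quasiIso X.Modules (ComplexShape.up ℤ)
  let F := Scheme.Modules.pullback g
  let e' : DerivedCategory.Qh ⋙ pullD g ≅ DCoh.pullKh g := F.mapDerivedCategoryFactorsh
  haveI : (pullD g).IsLeftDerivedFunctor e'.hom W :=
    CategoryTheory.Functor.isLeftDerivedFunctor_of_inverts W _ e'
  exact ⟨(Functor.leftDerivedNatIso (pullD g) (DCoh.Lpull g) e'.hom
    ((DCoh.pullKh g).totalLeftDerivedCounit DerivedCategory.Qh W) W (Iso.refl _)).symm⟩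

/-- A map invertible on all `Hom(j_! O_W[-n], -)` for small affine opens is invertible. -/
theorem isIso_of_bij_sD {Y : Scheme.{u}} {E F : DCoh.D Y} (hE : DCoh.IsQCohD E) (hF : DCoh.IsQCohD F)
    (α : E ⟶ F) (h : ∀ y : Y, ∃ W : Y.Opens, y ∈ W ∧ IsAffineOpen W ∧
      ∀ n : ℤ, Function.Bijective (fun φ : sD W n ⟶ E => φ ≫ α)) : IsIso α := by
  obtain ⟨C, p, q, hT⟩ := distinguished_cocone_triangle α
  refine (Triangle.isZero₃_iff_isIso₁ _ hT).1 ?_
  have hC : DCoh.IsQCohD C := isQCohD_obj₃ hT hE hF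
  have hH : ∀ i : ℤ, IsZero (DCoh.HD C i) := fun i => by
    refine isZero_of_sections (hC i) fun y => ?_
    obtain ⟨W, hyW, hW, hb⟩ := h y
    refine ⟨W, hyW, hW, ⟨fun a b => ?_⟩⟩
    have h0 : ∀ w : sD W i ⟶ C, w = 0 := fun w => by
      -- one degree up, for the connecting map
      let e : (sD W (i + 1))⟦(1 : ℤ)⟧ ≅ sD W i :=
        ((DerivedCategory.singleFunctors Y.Modules).shiftIso 1 i (i + 1) (by omega)).app _
      have hinj : w ≫ q = 0 := by
        obtain ⟨v, hv⟩ := (shiftFunctor (DCoh.D Y) (1 : ℤ)).map_surjective (e.hom ≫ w ≫ q)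
        have hz : (w ≫ q) ≫ α⟦(1 : ℤ)⟧' = 0 := by
          have hqa : q ≫ α⟦(1 : ℤ)⟧' = 0 := comp_distTriang_mor_zero₃₁ _ hT
          rw [Category.assoc, hqa, comp_zero]
        have hv0 : v ≫ α = 0 := by
          refine (shiftFunctor (DCoh.D Y) (1 : ℤ)).map_injective ?_
          rw [Functor.map_comp, hv, Functor.map_zero, Category.assoc, hz, comp_zero]
        have hv1 : v = 0 := (hb (i + 1)).1 (hv0.trans zero_comp.symm)
        rw [hv1, Functor.map_zero] at hv
        exact (cancel_epi e.hom).1 (hv.symm.trans comp_zero.symm)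
      obtain ⟨z, rfl⟩ := Triangle.coyoneda_exact₃ _ hT w hinj
      obtain ⟨z', rfl⟩ := (hb i).2 z
      have hp : α ≫ p = 0 := comp_distTriang_mor_zero₁₂ _ hT
      show ((z' ≫ α) ≫ p : sD W i ⟶ C) = 0
      rw [Category.assoc, hp, comp_zero]
    obtain ⟨wa, rfl⟩ := (hsec_bijective hW i hC).2 a
    obtain ⟨wb, rfl⟩ := (hsec_bijective hW i hC).2 b
    rw [h0 wa, h0 wb]
  let K := DerivedCategory.Q.objPreimage C
  let eC : DerivedCategory.Q.obj K ≅ C := DerivedCategory.Q.objObjPreimageIso C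
  refine IsZero.of_iso ?_ eC.symm
  exact (H9Misc.FinDimDerived.isZero_Q_obj_iff K).2 fun i => by
    rw [HomologicalComplex.exactAt_iff_isZero_homology]
    exact (hH i).of_iso (((DerivedCategory.homologyFunctorFactors _ i).app K).symm ≪≫
      (DerivedCategory.homologyFunctor _ i).mapIso eC)

/-- Equal opens give isomorphic objects. -/
def sDIso {Y : Scheme.{u}} {W T : Y.Opens} (h : W = T) (m : ℤ) : sD W m ≅ sD T m where
  hom := μD h.le 1 m
  inv := μD h.ge 1 m
  hom_inv_id := by rw [μD_comp, map_one, mul_one]; exact μD_one W m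
  inv_hom_id := by rw [μD_comp, map_one, mul_one]; exact μD_one T m

theorem isAffineOpen_up {X Y X' Y' : Scheme.{u}} {f : X ⟶ Y} {g : Y' ⟶ Y} {g' : X' ⟶ X} {f' : X' ⟶ Y'}
    (H : IsPullback g' f' f g) {V : Y.Opens} {W : Y'.Opens} (e : W ≤ g ⁻¹ᵁ V) (hV : IsAffineOpen V)
    (hW : IsAffineOpen W) {U : X.Opens} (hUV : U ≤ f ⁻¹ᵁ V) (hU : IsAffineOpen U) :
    IsAffineOpen (up g' (f' ⁻¹ᵁ W) U) := by
  haveI : IsAffine _ := hV
  haveI : IsAffine _ := hW
  haveI : IsAffine _ := hU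
  exact .of_isIso (Scheme.Hom.isPullback_resLE H e hUV rfl).isoPullback.hom

theorem isAffineOpen_up_id {Y Y' : Scheme.{u}} {g : Y' ⟶ Y} {V : Y.Opens} {W : Y'.Opens}
    (e : W ≤ g ⁻¹ᵁ V) (hV : IsAffineOpen V) (hW : IsAffineOpen W) {U : Y.Opens} (hUV : U ≤ V)
    (hU : IsAffineOpen U) : IsAffineOpen (up g W U) :=
  isAffineOpen_up (IsPullback.of_id_snd : IsPullback g (𝟙 Y') (𝟙 Y) g) e hV hW hUV hU

theorem affBC_id {Y Y' : Scheme.{u}} {g : Y' ⟶ Y} {V : Y.Opens} {W : Y'.Opens}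
    (e : W ≤ g ⁻¹ᵁ V) (hV : IsAffineOpen V) (hW : IsAffineOpen W) {M : Y.Modules} (hM : Coh.IsQCoh M) :
    letI := (g.appLE V W e).hom.toAlgebra
    ∀ (hc : Compat g e (RingHom.id Γ(Y, V)) (RingHom.id Γ(Y', W))), AffBC M hc := by
  intro hc U hU hUa
  exact affBC_square (IsPullback.of_id_snd : IsPullback g (𝟙 Y') (𝟙 Y) g) e hV hW hM U hU hUa

section Square

variable {X Y X' Y' : Scheme.{u}} {f : X ⟶ Y} {g : Y' ⟶ Y} {g' : X' ⟶ X} {f' : X' ⟶ Y'}
  [DCoh.HasLpull g] [DCoh.HasLpull g'] [DCoh.HasLpull f] [DCoh.HasLpull f']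
  [DCoh.HasRpush f] [DCoh.HasRpush f']
  [PreservesFiniteLimits (Scheme.Modules.pullback g)] [PreservesFiniteLimits (Scheme.Modules.pullback g')]

/-- Adjunct of a map into `Rf_* E`, on `f⁻¹V`. -/
def transp (af : DCoh.Lpull f ⊣ DCoh.Rpush f) (V : Y.Opens) (n : ℤ) (E : DCoh.D X)
    (φ : Γ(Y, V) →+* Γ(Y, V)) (φT : Γ(Y, V) →+* Γ(X, f ⁻¹ᵁ V)) (h : ∀ a, φT a = f.app V (φ a)) :
    HomAt V le_rfl n ((DCoh.Rpush f).obj E) φ ≃ₗ[Γ(Y, V)] HomAt (f ⁻¹ᵁ V) le_rfl n E φT :=
  LinearEquiv.ofBijective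
    (M := HomAt V le_rfl n ((DCoh.Rpush f).obj E) φ) (M₂ := HomAt (f ⁻¹ᵁ V) le_rfl n E φT)
    { toFun := fun x => (lsec f V n).inv ≫ (af.homEquiv _ _).symm x.out
      map_add' := fun x y => by
        haveI := additive_lpull f
        show _ ≫ (af.homEquiv _ _).symm (x.out + y.out) = _
        simp only [Adjunction.homEquiv_counit, Functor.map_add, Preadditive.add_comp,
          Preadditive.comp_add]
      map_smul' := fun a x => by
        show _ ≫ (af.homEquiv _ _).symm (act φ le_rfl n a ≫ x.out) =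
          act φT le_rfl n a ≫ _ ≫ (af.homEquiv _ _).symm x.out
        rw [af.homEquiv_naturality_left_symm, ← Category.assoc, ← Category.assoc]
        congr 1
        rw [Iso.inv_comp_eq, ← Category.assoc, Iso.eq_comp_inv]
        refine (lsec_naturality f (le_refl V) _ n).trans ?_
        refine congrArg ((lsec f V n).hom ≫ ·) ?_
        congr 1
        rw [res_self, res_self, h] }
    (by
      show Function.Bijective (fun x : sD V n ⟶ (DCoh.Rpush f).obj E =>
        (lsec f V n).inv ≫ (af.homEquiv _ _).symm x)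
      exact bijective_congr ((Iso.homCongr (lsec f V n) (Iso.refl E)).bijective.comp
        (af.homEquiv _ _).symm.bijective) fun x => by simp [Iso.homCongr])

/-- Base change for one pair of opens. -/
theorem bij_comp_theta (H : IsPullback g' f' f g) [QuasiCompact f] [QuasiSeparated f] [Flat g]
    (N : DCoh.Lpull g ≅ pullD g) (N' : DCoh.Lpull g' ≅ pullD g')
    (af : DCoh.Lpull f ⊣ DCoh.Rpush f) (af' : DCoh.Lpull f' ⊣ DCoh.Rpush f')
    (c : DCoh.Lpull g ⋙ DCoh.Lpull f' ≅ DCoh.Lpull f ⋙ DCoh.Lpull g')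
    {E : DCoh.D X} (hE : DCoh.IsQCohD E)
    (θ : (DCoh.Lpull g).obj ((DCoh.Rpush f).obj E) ⟶ (DCoh.Rpush f').obj ((DCoh.Lpull g').obj E))
    (hθ : (af'.homEquiv _ _).symm θ = c.hom.app _ ≫ (DCoh.Lpull g').map (af.counit.app E))
    {V : Y.Opens} (hV : IsAffineOpen V) {W : Y'.Opens} (hW : IsAffineOpen W) (e : W ≤ g ⁻¹ᵁ V) (n : ℤ) :
    Function.Bijective (fun φ : sD W n ⟶ (DCoh.Lpull g).obj ((DCoh.Rpush f).obj E) => φ ≫ θ) := by
  letI : Algebra Γ(Y, V) Γ(Y', W) := (g.appLE V W e).hom.toAlgebra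
  haveI : Module.Flat Γ(Y, V) Γ(Y', W) := g.flat_appLE hV hW e
  let G := (DCoh.Rpush f).obj E
  have hG : DCoh.IsQCohD G := isQCohD_rpush f hE
  let W₁ := up g W V
  have hW₁ : W₁ = W := inf_eq_right.2 e
  have hW₁a : IsAffineOpen W₁ := by rw [hW₁]; exact hW
  -- downstairs
  let φY : Γ(Y, V) →+* Γ(Y, V) := RingHom.id _
  let φY' : Γ(Y', W) →+* Γ(Y', W) := RingHom.id _
  have hc₀ : Compat g e φY φY' := fun a => rfl
  have hb₀ : Function.Bijective (psiD N hc₀ V le_rfl n G) := by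
    refine psiD_bijective_affine N hc₀ (fun M hM => ?_) (fun U hU hUa => ?_) V le_rfl hV n hG
    · exact affBC_id e hV hW hM hc₀
    · exact isAffineOpen_up_id e hV hW hU hUa
  -- upstairs
  let T := f ⁻¹ᵁ V
  let Q := f' ⁻¹ᵁ W
  let φX := scX f V
  let φX' := scX f' W
  have hc : Compat g' (le_up H e) φX φX' := compat_square H e
  have hTqs : IsQuasiSeparated (T : Set X) := f.isQuasiSeparated_preimage hV.isQuasiSeparated
  have hb : Function.Bijective (psiD N' hc T le_rfl n E) :=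
    psiD_bijective N' hc hTqs (fun M hM => affBC_square H e hV hW hM)
      (fun U hU hUa => isAffineOpen_up H e hV hW hU hUa) T le_rfl (f.isCompact_preimage hV.isCompact) n hE
  -- the comparison of the source objects
  have hT : f' ⁻¹ᵁ W₁ = up g' Q T := by
    have h1 : f' ⁻¹ᵁ (g ⁻¹ᵁ V) = g' ⁻¹ᵁ T := by
      rw [← Scheme.Hom.comp_preimage, ← Scheme.Hom.comp_preimage, H.w]
    show f' ⁻¹ᵁ (g ⁻¹ᵁ V ⊓ W) = g' ⁻¹ᵁ T ⊓ Q
    rw [← h1]
    rfl
  have hT' : f' ⁻¹ᵁ (g ⁻¹ᵁ V) = g' ⁻¹ᵁ T := by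
    rw [← Scheme.Hom.comp_preimage, ← Scheme.Hom.comp_preimage, H.w]
  -- transposition upstairs
  let τ : (sD W₁ n ⟶ (DCoh.Rpush f').obj ((DCoh.Lpull g').obj E)) →
      (sD (up g' Q T) n ⟶ (pullD g').obj E) := fun y =>
    (sDIso hT n).inv ≫ (lsec f' W₁ n).inv ≫ (af'.homEquiv _ _).symm y ≫ N'.hom.app E
  have hτ : Function.Bijective τ :=
    bijective_congr (((sDIso hT n).homCongr (Iso.refl _)).bijective.comp
      (((lsec f' W₁ n).homCongr (N'.app E)).bijective.comp (af'.homEquiv _ _).symm.bijective))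
      fun y => by simp [τ, Iso.homCongr]
  let s : sD (f' ⁻¹ᵁ (g ⁻¹ᵁ V)) n ≅ sD (g' ⁻¹ᵁ T) n :=
    (lsec f' _ n).symm ≪≫ (DCoh.Lpull f').mapIso (lsec g V n).symm ≪≫ c.app _ ≪≫
      (DCoh.Lpull g').mapIso (lsec f V n) ≪≫ lsec g' T n
  obtain ⟨r, hr⟩ := exists_unit_of_isoD (sDIso hT'.symm n ≪≫ s)
  let rQ : Γ(X', up g' Q T) :=
    X'.presheaf.map (homOfLE (inf_le_left : up g' Q T ≤ g' ⁻¹ᵁ T)).op (r : Γ(X', g' ⁻¹ᵁ T))
  let tr := transp (E := E) af V n φY φX (fun _ => rfl)
  have key0 : ∀ x : HomAt V le_rfl n G φY,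
      τ ((psi0 N hc₀ V le_rfl n G x).out ≫ N.inv.app G ≫ θ) =
        μD le_rfl rQ n ≫ (psi0 N' hc T le_rfl n E (tr x)).out := by
    intro x
    show (sDIso hT n).inv ≫ (lsec f' W₁ n).inv ≫ (af'.homEquiv _ _).symm
        ((μD (inf_le_left : W₁ ≤ g ⁻¹ᵁ V) 1 n ≫ (lsecF N V n).inv ≫ (pullD g).map x.out) ≫
          N.inv.app G ≫ θ) ≫ N'.hom.app E =
      μD le_rfl rQ n ≫ μD (inf_le_left : up g' Q T ≤ g' ⁻¹ᵁ T) 1 n ≫ (lsecF N' T n).inv ≫
        (pullD g').map ((lsec f V n).inv ≫ (af.homEquiv _ _).symm x.out)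
    have hx : (lsecF N V n).inv ≫ (pullD g).map x.out ≫ N.inv.app G =
        (lsec g V n).inv ≫ (DCoh.Lpull g).map x.out := by
      rw [N.inv.naturality]
      simp [lsecF]
    have hin : (μD (inf_le_left : W₁ ≤ g ⁻¹ᵁ V) 1 n ≫ (lsecF N V n).inv ≫ (pullD g).map x.out) ≫
        N.inv.app G ≫ θ =
        (μD (inf_le_left : W₁ ≤ g ⁻¹ᵁ V) 1 n ≫ (lsec g V n).inv ≫ (DCoh.Lpull g).map x.out) ≫ θ := by
      simp only [Category.assoc]
      rw [reassoc_of% hx]
    rw [hin, af'.homEquiv_naturality_left_symm, hθ]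
    have hc' : (DCoh.Lpull f').map ((DCoh.Lpull g).map x.out) ≫ c.hom.app G =
        c.hom.app _ ≫ (DCoh.Lpull g').map ((DCoh.Lpull f).map x.out) := c.hom.naturality x.out
    have hadj : (af.homEquiv _ _).symm x.out = (DCoh.Lpull f).map x.out ≫ af.counit.app E :=
      af.homEquiv_counit _ _ _
    simp only [Functor.map_comp, Category.assoc, hadj]
    rw [reassoc_of% hc']
    -- the transition map through the derived pullback
    have h1 : (lsec f' W₁ n).inv ≫ (DCoh.Lpull f').map (μD (inf_le_left : W₁ ≤ g ⁻¹ᵁ V) 1 n) =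
        μD (f'.preimage_mono (inf_le_left : W₁ ≤ g ⁻¹ᵁ V)) 1 n ≫ (lsec f' (g ⁻¹ᵁ V) n).inv := by
      rw [Iso.inv_comp_eq, ← Category.assoc, Iso.eq_comp_inv, lsec_naturality, map_one]
    rw [reassoc_of% h1]
    have h2 : (lsec f' (g ⁻¹ᵁ V) n).inv ≫ (DCoh.Lpull f').map (lsec g V n).inv ≫ c.hom.app _ =
        s.hom ≫ (lsec g' T n).inv ≫ (DCoh.Lpull g').map (lsec f V n).inv := by
      simp only [s, Iso.trans_hom, Iso.symm_hom, Functor.mapIso_hom, Iso.app_hom, Category.assoc,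
        Iso.hom_inv_id_assoc]
      erw [← Functor.map_comp, Iso.hom_inv_id, CategoryTheory.Functor.map_id, Category.comp_id]
    rw [reassoc_of% h2]
    have h3 : s.hom = (sDIso hT'.symm n).inv ≫ μD le_rfl (r : Γ(X', g' ⁻¹ᵁ T)) n := by
      rw [hr]
      simp
    rw [h3]
    simp only [sDIso, Category.assoc]
    rw [← Category.assoc (μD hT.ge 1 n), μD_comp, ← Category.assoc, μD_comp, ← Category.assoc, μD_comp,
      ← Category.assoc (μD le_rfl rQ n), μD_comp]
    simp only [map_one, mul_one, one_mul, lsecF, Iso.trans_inv, Iso.symm_inv, Iso.app_hom, Category.assoc]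
    refine congrArg₂ (· ≫ ·) rfl (congrArg ((lsec g' T n).inv ≫ ·) ?_)
    simp only [← Functor.map_comp, ← Functor.map_comp_assoc, Category.assoc]
    exact N'.hom.naturality _
  haveI := additive_lpull f'
  have key : ∀ z, τ ((psiD N hc₀ V le_rfl n G z).out ≫ N.inv.app G ≫ θ) =
      μD le_rfl rQ n ≫ (psiD N' hc T le_rfl n E (tr.toLinearMap.baseChange _ z)).out := by
    intro z
    induction z using TensorProduct.induction_on with
    | zero =>
      simp only [map_zero]
      show τ ((0 : sD W₁ n ⟶ _) ≫ _) = μD le_rfl rQ n ≫ (0 : sD (up g' Q T) n ⟶ _)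
      simp only [zero_comp, comp_zero, τ, Adjunction.homEquiv_counit, Functor.map_zero]
    | tmul b x =>
      rw [psiD_tmul, LinearMap.baseChange_tmul, psiD_tmul]
      show τ ((act φY' (inf_le_right : W₁ ≤ W) n b ≫ _) ≫ _) =
        μD le_rfl rQ n ≫ act φX' (inf_le_right : up g' Q T ≤ Q) n b ≫ _
      rw [Category.assoc]
      have hτact : ∀ y, τ (act φY' (inf_le_right : W₁ ≤ W) n b ≫ y) =
          act φX' (inf_le_right : up g' Q T ≤ Q) n b ≫ τ y := fun y => by
        have hact : (lsec f' W₁ n).inv ≫ (DCoh.Lpull f').map (act φY' (inf_le_right : W₁ ≤ W) n b) =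
            μD le_rfl (f'.app W₁ (Y'.presheaf.map (homOfLE (inf_le_right : W₁ ≤ W)).op b)) n ≫
              (lsec f' W₁ n).inv := by
          rw [Iso.inv_comp_eq, ← Category.assoc, Iso.eq_comp_inv]
          exact lsec_naturality f' (le_refl W₁) _ n
        show (sDIso hT n).inv ≫ (lsec f' W₁ n).inv ≫ (af'.homEquiv _ _).symm
            (act φY' (inf_le_right : W₁ ≤ W) n b ≫ y) ≫ N'.hom.app E =
          act φX' (inf_le_right : up g' Q T ≤ Q) n b ≫ (sDIso hT n).inv ≫ (lsec f' W₁ n).inv ≫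
            (af'.homEquiv _ _).symm y ≫ N'.hom.app E
        rw [af'.homEquiv_naturality_left_symm, Category.assoc, reassoc_of% hact]
        simp only [sDIso]
        rw [← Category.assoc, μD_comp, ← Category.assoc (act φX' _ n b), μD_comp]
        refine congrArg (· ≫ _) ?_
        congr 1
        simp only [map_one, mul_one, one_mul, φX', scX]
        rw [Scheme.Hom.app_eq_appLE, Scheme.Hom.app_eq_appLE]
        erw [← CommRingCat.comp_apply, ← CommRingCat.comp_apply]
        rw [Scheme.Hom.appLE_map, Scheme.Hom.map_appLE]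
        exact (congr($(Scheme.Hom.appLE_map (f := f') le_rfl
          (homOfLE (inf_le_right : up g' Q T ≤ Q)).op) b)).symm
      rw [hτact, key0, ← Category.assoc, ← Category.assoc]
      congr 1
      rw [μD_comp, μD_comp, res_self, res_self, mul_comm]
    | add z w hz hw =>
      simp only [map_add]
      show τ (((psiD N hc₀ V le_rfl n G z).out + (psiD N hc₀ V le_rfl n G w).out) ≫ _) =
        μD le_rfl rQ n ≫ ((psiD N' hc T le_rfl n E _).out + (psiD N' hc T le_rfl n E _).out)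
      rw [Preadditive.add_comp, Preadditive.comp_add, ← hz, ← hw]
      simp only [τ, Adjunction.homEquiv_counit, Functor.map_add, Preadditive.add_comp, Preadditive.comp_add]
  have hrQ : IsUnit rQ := r.isUnit.map _
  haveI : IsIso (μD (le_refl (up g' Q T)) rQ n) :=
    ⟨μD le_rfl (hrQ.unit⁻¹ : (Γ(X', up g' Q T))ˣ) n, by
      rw [μD_comp, res_self, IsUnit.mul_val_inv]; exact μD_one _ n, by
      rw [μD_comp, res_self, IsUnit.val_inv_mul]; exact μD_one _ n⟩
  have main : Function.Bijective (fun φ : sD W₁ n ⟶ (pullD g).obj G => τ (φ ≫ N.inv.app G ≫ θ)) := by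
    refine (Function.Bijective.of_comp_iff _ hb₀).1 ?_
    rw [show (fun φ : sD W₁ n ⟶ (pullD g).obj G => τ (φ ≫ N.inv.app G ≫ θ)) ∘ psiD N hc₀ V le_rfl n G = _
      from funext key]
    exact (bijective_congr (((asIso (μD (le_refl (up g' Q T)) rQ n)).symm.homCongr (Iso.refl _)).bijective)
      (q := fun y => μD (le_refl (up g' Q T)) rQ n ≫ y)
      (fun y => by simp [Iso.homCongr])).comp (hb.comp (LinearEquiv.baseChange _ _ _ _ tr).bijective)
  have h₁ : Function.Bijective (fun φ : sD W₁ n ⟶ (DCoh.Lpull g).obj G => φ ≫ θ) := by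
    refine (Function.Bijective.of_comp_iff' hτ _).1 ?_
    refine bijective_congr (main.comp ((Iso.refl _).homCongr (N.app G)).bijective) fun φ => ?_
    simp [Iso.homCongr]
  refine bijective_congr (((sDIso hW₁ n).homCongr (Iso.refl _)).bijective.comp
    (h₁.comp ((sDIso hW₁ n).symm.homCongr (Iso.refl _)).bijective)) fun φ => ?_
  simp [Iso.homCongr]

end Square

end Groth.Agent.RelPC13.BC

namespace Groth.Agent.RelPC13.BC

open Groth.Agent.KFlatLib Groth.Agent.CohCore23.BC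

/-- Flat base change for derived direct images of complexes with quasi-coherent cohomology. -/
theorem exists_baseChange_iso {X Y X' Y' : Scheme.{u}} {f : X ⟶ Y} {g : Y' ⟶ Y} {g' : X' ⟶ X}
    {f' : X' ⟶ Y'} (H : IsPullback g' f' f g) [QuasiCompact f] [QuasiSeparated f] [Flat g]
    [DCoh.HasRpush f] [DCoh.HasRpush g] [DCoh.HasLpull g] [DCoh.HasRpush f'] [DCoh.HasRpush g']
    [DCoh.HasLpull g'] (adjg : DCoh.Lpull g ⊣ DCoh.Rpush g) (adjg' : DCoh.Lpull g' ⊣ DCoh.Rpush g') :
    ∃ e : DCoh.Rpush g' ⋙ DCoh.Rpush f ≅ DCoh.Rpush f' ⋙ DCoh.Rpush g,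
      ∀ E : DCoh.D X, DCoh.IsQCohD E → IsIso (DCoh.baseChangeApp adjg adjg' e E) := by
  haveI : Flat g' := MorphismProperty.of_isPullback H.flip inferInstance
  haveI : QuasiCompact f' := MorphismProperty.of_isPullback H inferInstance
  haveI : QuasiSeparated f' := MorphismProperty.of_isPullback H inferInstance
  haveI := hasLpull f
  haveI := hasLpull f'
  haveI := hasLpull (f' ≫ g)
  haveI := hasLpull (g' ≫ f)
  haveI := preservesHomology_pullback g
  haveI := preservesHomology_pullback g'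
  haveI : PreservesFiniteLimits (Scheme.Modules.pullback g) :=
    (Scheme.Modules.pullback g).preservesFiniteLimits_of_preservesHomology
  haveI : PreservesFiniteLimits (Scheme.Modules.pullback g') :=
    (Scheme.Modules.pullback g').preservesFiniteLimits_of_preservesHomology
  obtain ⟨N⟩ := nonempty_lpull_iso_pullD g
  obtain ⟨N'⟩ := nonempty_lpull_iso_pullD g'
  obtain ⟨af⟩ := nonempty_lpull_rpush_adj f
  obtain ⟨af'⟩ := nonempty_lpull_rpush_adj f'
  obtain ⟨c₁⟩ := nonempty_lpull_comp f' g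
  obtain ⟨c₂⟩ := nonempty_lpull_comp g' f
  obtain ⟨cc⟩ := FMX.nonempty_lpull_congr (H.w.symm : f' ≫ g = g' ≫ f)
  let c : DCoh.Lpull g ⋙ DCoh.Lpull f' ≅ DCoh.Lpull f ⋙ DCoh.Lpull g' := c₁ ≪≫ cc ≪≫ c₂.symm
  let adjA := af.comp adjg'
  let adjB := adjg.comp af'
  let adjA' := adjA.ofNatIsoLeft c.symm
  refine ⟨adjA'.rightAdjointUniq adjB, fun E hE => ?_⟩
  let θ := DCoh.baseChangeApp adjg adjg' (adjA'.rightAdjointUniq adjB) E
  have hθ : (af'.homEquiv _ _).symm θ = c.hom.app _ ≫ (DCoh.Lpull g').map (af.counit.app E) := by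
    let y : (DCoh.Rpush f).obj E ⟶ (DCoh.Rpush g' ⋙ DCoh.Rpush f).obj ((DCoh.Lpull g').obj E) :=
      (DCoh.Rpush f).map (adjg'.unit.app E)
    have h1 : (af'.homEquiv _ _).symm θ = (adjB.homEquiv _ _).symm
        (y ≫ (adjA'.rightAdjointUniq adjB).hom.app ((DCoh.Lpull g').obj E)) := by
      rw [Adjunction.comp_homEquiv]
      rfl
    have hA : adjA.counit.app ((DCoh.Lpull g').obj E) =
        (adjA.homEquiv _ _).symm (𝟙 _) := (adjA.homEquiv_symm_id _).symm
    rw [h1, adjB.homEquiv_naturality_left_symm, Adjunction.homEquiv_symm_rightAdjointUniq_hom_app]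
    show (DCoh.Lpull g ⋙ DCoh.Lpull f').map y ≫ c.hom.app _ ≫ adjA.counit.app _ = _
    rw [← Category.assoc, c.hom.naturality, Category.assoc, hA]
    refine congrArg (c.hom.app _ ≫ ·) ?_
    refine (adjA.homEquiv_naturality_left_symm y (𝟙 _)).symm.trans ?_
    rw [Category.comp_id, Adjunction.comp_homEquiv]
    show (adjg'.homEquiv _ _).symm ((af.homEquiv _ _).symm y) = _
    have hy : (af.homEquiv _ _).symm y = af.counit.app E ≫ adjg'.unit.app E := by
      rw [← af.homEquiv_symm_id]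
      refine Eq.trans ?_ (af.homEquiv_naturality_right_symm (𝟙 _) (adjg'.unit.app E))
      simp [y]
    rw [hy, adjg'.homEquiv_naturality_left_symm]
    refine (congrArg ((DCoh.Lpull g').map (af.counit.app E) ≫ ·) ?_).trans (Category.comp_id _)
    rw [← adjg'.homEquiv_id]
    exact Equiv.symm_apply_apply _ _
  have hLE : DCoh.IsQCohD ((DCoh.Lpull g').obj E) :=
    isQCohD_of_iso (N'.app E).symm (isQCohD_pullD hE)
  refine isIso_of_bij_sD (isQCohD_of_iso (N.app _).symm (isQCohD_pullD (isQCohD_rpush f hE)))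
    (isQCohD_rpush f' hLE) _ fun y => ?_
  obtain ⟨_, ⟨V, hV, rfl⟩, hyV, -⟩ :=
    Y.isBasis_affineOpens.exists_subset_of_mem_open (Set.mem_univ (g.base y)) isOpen_univ
  obtain ⟨_, ⟨W, hW, rfl⟩, hyW, hle⟩ :=
    Y'.isBasis_affineOpens.exists_subset_of_mem_open (show y ∈ g ⁻¹ᵁ V from hyV) (g ⁻¹ᵁ V).2
  exact ⟨W, hyW, hW, fun n => bij_comp_theta H N N' af af' c hE θ hθ hV hW hle n⟩

end Groth.Agent.RelPC13.BC
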