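import Groth.Agent.RelPC13.BC.HomAt
import Groth.Agent.CohCore23.SecBC
import Mathlib.Algebra.FiveLemma

/-! # Flat base change for hom groups out of `j_! O_U` -/

set_option linter.style.haveILetI false
set_option backward.isDefEq.respectTransparency false
set_option backward.isDefEq.respectTransparency.types false

universe u

open CategoryTheory CategoryTheory.Limits AlgebraicGeometry TopologicalSpace Opposite Pretriangulated
open scoped TensorProduct

attribute [local instance] HasDerivedCategory.standard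

noncomputable section

namespace Groth.Agent.RelPC13.BC

open Groth.Agent.KFlatLib Groth.Agent.CohCore23.BC

variable {X X' : Scheme.{u}} {g : X' ⟶ X} [DCoh.HasLpull g]
  [PreservesFiniteLimits (Scheme.Modules.pullback g)]

/-- The inverse image functor on derived categories. -/
abbrev pullD (g : X' ⟶ X) [PreservesFiniteLimits (Scheme.Modules.pullback g)] : DCoh.D X ⥤ DCoh.D X' :=
  (Scheme.Modules.pullback g).mapDerivedCategory

variable (N : DCoh.Lpull g ≅ pullD g)

/-- The pullback of `j_! O_U[-m]`. -/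
def lsecF (U : X.Opens) (m : ℤ) : (pullD g).obj (sD U m) ≅ sD (g ⁻¹ᵁ U) m :=
  (N.app _).symm ≪≫ lsec g U m

lemma lsecF_inv_naturality {U V : X.Opens} (h : U ≤ V) (r : Γ(X, U)) (m : ℤ) :
    μD (g.preimage_mono h) (g.app U r) m ≫ (lsecF N V m).inv =
      (lsecF N U m).inv ≫ (pullD g).map (μD h r m) := by
  rw [Iso.comp_inv_eq, Category.assoc, Iso.eq_inv_comp]
  simp only [lsecF, Iso.trans_hom, Iso.symm_hom, Iso.app_inv, Category.assoc]
  rw [← lsec_naturality g h, ← Category.assoc, ← Category.assoc]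
  exact congrArg (· ≫ (lsec g V m).hom) (N.inv.naturality _).symm

variable {A B : Type u} [CommRing A] [CommRing B] [Algebra A B] {T : X.Opens} {Q : X'.Opens}
  {hQ : Q ≤ g ⁻¹ᵁ T} {φ : A →+* Γ(X, T)} {φ' : B →+* Γ(X', Q)}

instance (P : X'.Opens) (h : P ≤ Q) (m : ℤ) (E : DCoh.D X') : Module A (HomAt P h m E φ') :=
  Module.compHom _ (algebraMap A B)

instance (P : X'.Opens) (h : P ≤ Q) (m : ℤ) (E : DCoh.D X') :
    IsScalarTower A B (HomAt P h m E φ') :=
  .of_algebraMap_smul fun _ _ => rfl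

variable (hc : Compat g hQ φ φ')

include hc in
lemma act_comp_lsecF_inv (U : X.Opens) (h : U ≤ T) (m : ℤ) (a : A) :
    act φ' (inf_le_right : up g Q U ≤ Q) m (algebraMap A B a) ≫
        μD (inf_le_left : up g Q U ≤ g ⁻¹ᵁ U) 1 m ≫ (lsecF N U m).inv =
      μD (inf_le_left : up g Q U ≤ g ⁻¹ᵁ U) 1 m ≫ (lsecF N U m).inv ≫ (pullD g).map (act φ h m a) := by
  rw [← lsecF_inv_naturality, ← Category.assoc, ← Category.assoc, μD_comp, μD_comp]
  congr 1
  rw [map_one, mul_one, one_mul]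
  congr 1
  have := compat_le (g := g) hc h a
  rw [Scheme.Hom.appLE, CommRingCat.comp_apply] at this
  exact this.symm

/-- The comparison map before extension of scalars. -/
def psi0 (U : X.Opens) (h : U ≤ T) (m : ℤ) (E : DCoh.D X) :
    HomAt U h m E φ →ₗ[A] HomAt (up g Q U) inf_le_right m ((pullD g).obj E) φ' where
  toFun x := μD (inf_le_left : up g Q U ≤ g ⁻¹ᵁ U) 1 m ≫ (lsecF N U m).inv ≫ (pullD g).map x.out
  map_add' x y := by
    show _ ≫ _ ≫ (pullD g).map (x.out + y.out) = _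
    rw [Functor.map_add, Preadditive.comp_add, Preadditive.comp_add]
  map_smul' a x := by
    show _ ≫ _ ≫ (pullD g).map (act φ h m a ≫ x.out) =
      act φ' (inf_le_right : up g Q U ≤ Q) m (algebraMap A B a) ≫ _ ≫ _ ≫ (pullD g).map x.out
    rw [Functor.map_comp]
    simp only [← Category.assoc]
    congr 1
    simpa only [Category.assoc] using (act_comp_lsecF_inv N hc U h m a).symm

/-- The comparison map. -/
def psiD (U : X.Opens) (h : U ≤ T) (m : ℤ) (E : DCoh.D X) :
    B ⊗[A] HomAt U h m E φ →ₗ[B] HomAt (up g Q U) inf_le_right m ((pullD g).obj E) φ' :=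
  LinearMap.liftBaseChange B (psi0 N hc U h m E)

lemma psiD_tmul (U : X.Opens) (h : U ≤ T) (m : ℤ) (E : DCoh.D X) (b : B) (x : HomAt U h m E φ) :
    psiD N hc U h m E (b ⊗ₜ x) = b • psi0 N hc U h m E x :=
  LinearMap.liftBaseChange_tmul _ _ _ _

lemma resHom_psi0 {U V : X.Opens} (i : U ≤ V) (h : V ≤ T) (m : ℤ) (E : DCoh.D X)
    (x : HomAt V h m E φ) :
    resHom φ' (inf_le_right : up g Q V ≤ Q) m ((pullD g).obj E)
        (inf_le_inf_right Q (g.preimage_mono i) : up g Q U ≤ up g Q V) inf_le_right (psi0 N hc V h m E x) =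
      psi0 N hc U (i.trans h) m E (resHom φ h m E i (i.trans h) x) := by
  show μD _ 1 m ≫ μD _ 1 m ≫ (lsecF N V m).inv ≫ (pullD g).map x.out =
    μD _ 1 m ≫ (lsecF N U m).inv ≫ (pullD g).map (μD i 1 m ≫ x.out)
  rw [Functor.map_comp]
  simp only [← Category.assoc]
  congr 1
  rw [Category.assoc (μD (inf_le_left : up g Q U ≤ g ⁻¹ᵁ U) 1 m), ← lsecF_inv_naturality,
    μD_comp, ← Category.assoc, μD_comp]
  congr 1
  simp

theorem isQCohD_pullD {E : DCoh.D X} (hE : DCoh.IsQCohD E) : DCoh.IsQCohD ((pullD g).obj E) := fun i =>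
  isQCoh_of_iso ((mapDCHomologyIso (Scheme.Modules.pullback g) i).app E).symm
    (QCoh.isQCoh_pullback g (hE i))

/-- The automorphism of `j_! O_{g⁻¹U}` measuring the choices made. -/
def secAuto (U : X.Opens) (m : ℤ) : secObj (g ⁻¹ᵁ U) ≅ secObj (g ⁻¹ᵁ U) :=
  (hSingle m _).symm ≪≫ (DerivedCategory.homologyFunctor X'.Modules m).mapIso (lsecF N U m).symm ≪≫
    (mapDCHomologyIso (Scheme.Modules.pullback g) m).app _ ≪≫
    (Scheme.Modules.pullback g).mapIso (hSingle m _) ≪≫ pullSecIso g U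

theorem hsec_lsecF (U : X.Opens) (m : ℤ) (r : Γ(X', g ⁻¹ᵁ U)ˣ)
    (hr : μ le_rfl (r : Γ(X', g ⁻¹ᵁ U)) = (secAuto N U m).hom) {U' : X'.Opens} (hle : U' ≤ g ⁻¹ᵁ U)
    {E : DCoh.D X} (x : sD U m ⟶ E) :
    ((mapDCHomologyIso (Scheme.Modules.pullback g) m).hom.app E).app U' (hsec U' m _
      (μD hle 1 m ≫ (lsecF N U m).inv ≫ (pullD g).map x)) =
      X'.presheaf.map (homOfLE hle).op (r : Γ(X', g ⁻¹ᵁ U)) •
        (show Γ((Scheme.Modules.pullback g).obj (DCoh.HD E m), U') from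
          QCoh.pullSec g (DCoh.HD E m) hle (hsec U m E x)) := by
  let pg := Scheme.Modules.pullback g
  let ν := mapDCHomologyIso pg m
  let H := DerivedCategory.homologyFunctor X'.Modules m
  let H₀ := DerivedCategory.homologyFunctor X.Modules m
  have hn : H.map ((pullD g).map x) ≫ ν.hom.app E = ν.hom.app _ ≫ pg.map (H₀.map x) :=
    ν.hom.naturality x
  have h1 : psiC m (secObj (g ⁻¹ᵁ U)) _ ((lsecF N U m).inv ≫ (pullD g).map x) ≫ ν.hom.app E =
      (secAuto N U m).hom ≫ (pullSecIso g U).inv ≫ pg.map (psiC m (secObj U) E x) := by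
    rw [psiC, Functor.map_comp]
    simp only [Category.assoc]
    refine (congrArg (fun t => (hSingle m _).inv ≫ H.map (lsecF N U m).inv ≫ t) hn).trans ?_
    simp only [psiC, secAuto, Iso.trans_hom, Iso.symm_hom, Functor.mapIso_hom, Iso.app_hom,
      Category.assoc, Iso.hom_inv_id_assoc]
    refine congrArg (fun t => (hSingle m _).inv ≫ H.map (lsecF N U m).inv ≫ ν.hom.app _ ≫ t) ?_
    erw [← Functor.map_comp]
    exact congrArg pg.map (Iso.hom_inv_id_assoc _ _).symm
  refine (secHom_comp U' (psiC m (secObj U') _ _) (ν.hom.app E)).symm.trans ?_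
  rw [psiC_single_map, Category.assoc, h1, ← hr, ← Category.assoc, μ_comp, one_mul]
  exact secHom_pullSecIso_inv_map g U (psiC m (secObj U) E x) _ _

attribute [local irreducible] hsec psiC secHom

omit [DCoh.HasLpull g] [PreservesFiniteLimits (Scheme.Modules.pullback g)] in
lemma hsec_act (U : X.Opens) (h : U ≤ T) (m : ℤ) {E : DCoh.D X} (a : A) (x : sD U m ⟶ E) :
    hsec U m E (act φ h m a ≫ x) = X.presheaf.map (homOfLE h).op (φ a) • hsec U m E x := by
  rw [act, hsec_μD]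
  exact congrArg (X.presheaf.map (homOfLE h).op (φ a) • ·)
    (ConcreteCategory.congr_hom (CategoryTheory.Functor.map_id _ _) _)

/-- Sections of cohomology over an affine open, as a module. -/
def hsecEquiv (U : X.Opens) (h : U ≤ T) (hU : IsAffineOpen U) (m : ℤ) {E : DCoh.D X}
    (hE : DCoh.IsQCohD E) : HomAt U h m E φ ≃ₗ[A] S (DCoh.HD E m) φ U h :=
  LinearEquiv.ofBijective (M := HomAt U h m E φ) (M₂ := S (DCoh.HD E m) φ U h)
    { toFun := fun x : HomAt U h m E φ => (show S (DCoh.HD E m) φ U h from hsec U m E x.out)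
      map_add' := fun x y => hsec_add U m E x.out y.out
      map_smul' := fun a x => hsec_act (φ := φ) U h m a x.out }
    (hsec_bijective hU m hE)

/-- Sections of cohomology of the pullback. -/
def hsecPull (U : X.Opens) (m : ℤ) (E : DCoh.D X) (φ' : B →+* Γ(X', Q)) :
    HomAt (up g Q U) inf_le_right m ((pullD g).obj E) φ' →ₗ[B]
      CohCore23.BC.N g (Q := Q) φ' (DCoh.HD E m) U where
  toFun y := ((mapDCHomologyIso (Scheme.Modules.pullback g) m).hom.app E).app (up g Q U)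
    (hsec (up g Q U) m _ y.out)
  map_add' x y := (congrArg _ (hsec_add (up g Q U) m _ x.out y.out)).trans
    (map_add (((mapDCHomologyIso (Scheme.Modules.pullback g) m).hom.app E).app (up g Q U)).hom _ _)
  map_smul' b y := by
    show ((mapDCHomologyIso (Scheme.Modules.pullback g) m).hom.app E).app (up g Q U)
      (hsec (up g Q U) m _ (act φ' (inf_le_right : up g Q U ≤ Q) m b ≫ y.out)) = _
    rw [act, hsec_μD, Scheme.Modules.Hom.app_smul]
    exact congrArg (fun t => X'.presheaf.map (homOfLE (inf_le_right : up g Q U ≤ Q)).op (φ' b) •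
      ((mapDCHomologyIso (Scheme.Modules.pullback g) m).hom.app E).app (up g Q U) t)
      (ConcreteCategory.congr_hom (CategoryTheory.Functor.map_id _ _) _)

theorem hsecPull_bijective (U : X.Opens) (hU' : IsAffineOpen (up g Q U)) (m : ℤ) {E : DCoh.D X}
    (hE : DCoh.IsQCohD E) : Function.Bijective (hsecPull (g := g) U m E φ') :=
  (ConcreteCategory.bijective_of_isIso
    (((mapDCHomologyIso (Scheme.Modules.pullback g) m).hom.app E).app (up g Q U))).comp
    (hsec_bijective hU' m (isQCohD_pullD hE))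

theorem hsecPull_psi0 (U : X.Opens) (h : U ≤ T) (hU : IsAffineOpen U) (m : ℤ) {E : DCoh.D X}
    (hE : DCoh.IsQCohD E) (r : Γ(X', g ⁻¹ᵁ U)ˣ)
    (hr : μ le_rfl (r : Γ(X', g ⁻¹ᵁ U)) = (secAuto N U m).hom) (x : HomAt U h m E φ) :
    hsecPull U m E φ' (psi0 N hc U h m E x) =
      X'.presheaf.map (homOfLE (inf_le_left : up g Q U ≤ g ⁻¹ᵁ U)).op (r : Γ(X', g ⁻¹ᵁ U)) •
        alpha (DCoh.HD E m) hc U h (hsecEquiv U h hU m hE x) :=
  hsec_lsecF N U m r hr (inf_le_left : up g Q U ≤ g ⁻¹ᵁ U) x.out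

theorem hsecPull_psiD (U : X.Opens) (h : U ≤ T) (hU : IsAffineOpen U) (m : ℤ) {E : DCoh.D X}
    (hE : DCoh.IsQCohD E) (r : Γ(X', g ⁻¹ᵁ U)ˣ)
    (hr : μ le_rfl (r : Γ(X', g ⁻¹ᵁ U)) = (secAuto N U m).hom) (z : B ⊗[A] HomAt U h m E φ) :
    hsecPull U m E φ' (psiD N hc U h m E z) =
      X'.presheaf.map (homOfLE (inf_le_left : up g Q U ≤ g ⁻¹ᵁ U)).op (r : Γ(X', g ⁻¹ᵁ U)) •
        CohCore23.BC.psi (DCoh.HD E m) hc U h ((hsecEquiv U h hU m hE).toLinearMap.baseChange B z) := by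
  induction z using TensorProduct.induction_on with
  | zero => simp only [map_zero, smul_zero]
  | tmul b x =>
    rw [psiD_tmul, map_smul, hsecPull_psi0 N hc U h hU m hE r hr x, LinearMap.baseChange_tmul,
      CohCore23.BC.psi, LinearMap.liftBaseChange_tmul]
    exact smul_comm (X'.presheaf.map (homOfLE (inf_le_right : up g Q U ≤ Q)).op (φ' b))
      (X'.presheaf.map (homOfLE (inf_le_left : up g Q U ≤ g ⁻¹ᵁ U)).op (r : Γ(X', g ⁻¹ᵁ U)))
      (alpha (DCoh.HD E m) hc U h (hsecEquiv U h hU m hE x))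
  | add z w hz hw => simp only [map_add, hz, hw, smul_add]

/-- Affine base change. -/
theorem psiD_bijective_affine (hbc : ∀ M : X.Modules, Coh.IsQCoh M → AffBC M hc)
    (hup : ∀ U : X.Opens, U ≤ T → IsAffineOpen U → IsAffineOpen (up g Q U))
    (U : X.Opens) (h : U ≤ T) (hU : IsAffineOpen U) (m : ℤ) {E : DCoh.D X} (hE : DCoh.IsQCohD E) :
    Function.Bijective (psiD N hc U h m E) := by
  obtain ⟨r, hr⟩ := exists_unit_of_iso (secAuto N U m)
  have hr' : IsUnit (X'.presheaf.map (homOfLE (inf_le_left : up g Q U ≤ g ⁻¹ᵁ U)).op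
    (r : Γ(X', g ⁻¹ᵁ U))) := r.isUnit.map _
  refine (Function.Bijective.of_comp_iff' (hsecPull_bijective U (hup U h hU) m hE) _).1 ?_
  rw [show hsecPull U m E φ' ∘ psiD N hc U h m E = _ from funext (hsecPull_psiD N hc U h hU m hE r hr)]
  exact (MulAction.bijective hr'.unit).comp ((hbc _ (hE m) U h hU).comp
    (LinearEquiv.baseChange A B _ _ (hsecEquiv U h hU m hE)).bijective)

variable [Module.Flat A B] {E E' : DCoh.D X} (κ : E'⟦(1 : ℤ)⟧ ≅ E)

include κ

/-- The Mayer-Vietoris step. -/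
theorem psiD_bijective_mv {U V W : X.Opens} (hU : U ≤ W) (hV : V ≤ W) (hW : W ≤ T)
    (hWle : W ≤ U ⊔ V) (m : ℤ)
    (h₁ : Function.Bijective (psiD N hc (U ⊓ V) (inf_le_left.trans (hU.trans hW)) m E'))
    (h₂ : Function.Bijective (psiD N hc U (hU.trans hW) m E'))
    (h₂' : Function.Bijective (psiD N hc V (hV.trans hW) m E'))
    (h₄ : Function.Bijective (psiD N hc U (hU.trans hW) m E))
    (h₄' : Function.Bijective (psiD N hc V (hV.trans hW) m E))
    (h₅ : Function.Bijective (psiD N hc (U ⊓ V) (inf_le_left.trans (hU.trans hW)) m E)) :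
    Function.Bijective (psiD N hc W hW m E) := by
  let F := pullD g
  let I := U ⊓ V
  let I' := up g Q I
  let U' := up g Q U
  let V' := up g Q V
  let W' := up g Q W
  have iIU : I' ≤ U' := inf_le_inf_right Q (g.preimage_mono inf_le_left)
  have iIV : I' ≤ V' := inf_le_inf_right Q (g.preimage_mono inf_le_right)
  have iU : U' ≤ W' := inf_le_inf_right Q (g.preimage_mono hU)
  have iV : V' ≤ W' := inf_le_inf_right Q (g.preimage_mono hV)
  have hI' : U' ⊓ V' ≤ I' := fun x hx => ⟨⟨hx.1.1, hx.2.1⟩, hx.1.2⟩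
  have hW' : W' ≤ U' ⊔ V' := fun x hx => by
    rcases (Opens.mem_sup).1 (hWle hx.1) with h | h
    · exact (Opens.mem_sup).2 (Or.inl ⟨h, hx.2⟩)
    · exact (Opens.mem_sup).2 (Or.inr ⟨h, hx.2⟩)
  obtain ⟨δ, hδ⟩ := exists_mvTriangle m inf_le_left inf_le_right hU hV (le_refl (U ⊓ V)) hWle
  obtain ⟨δ', hδ'⟩ := exists_mvTriangle m iIU iIV iU iV hI' hW'
  -- the comparison of the two triangles
  let ι : ∀ O : X.Opens, sD (up g Q O) m ⟶ F.obj (sD O m) := fun O =>
    μD (inf_le_left : up g Q O ≤ g ⁻¹ᵁ O) 1 m ≫ (lsecF N O m).inv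
  have hι : ∀ {O P : X.Opens} (i : O ≤ P), μD (inf_le_inf_right Q (g.preimage_mono i) :
      up g Q O ≤ up g Q P) 1 m ≫ ι P = ι O ≫ F.map (μD i 1 m) := fun {O P} i => by
    rw [← Category.assoc, μD_comp, Category.assoc, ← lsecF_inv_naturality, ← Category.assoc, μD_comp]
    congr 1
    simp
  have hFδ := F.map_distinguished _ hδ
  let b : sD U' m ⊞ sD V' m ⟶ F.obj (sD U m ⊞ sD V m) :=
    biprod.desc (ι U ≫ F.map biprod.inl) (ι V ≫ F.map biprod.inr)
  have hb : mvLift m iIU iIV ≫ b = ι I ≫ F.map (mvLift m inf_le_left inf_le_right) := by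
    have e : mvLift m (inf_le_left : I ≤ U) (inf_le_right : I ≤ V) =
        μD inf_le_left 1 m ≫ biprod.inl + (-μD inf_le_right 1 m) ≫ biprod.inr := by
      apply biprod.hom_ext <;> simp
    rw [e, F.map_add, F.map_comp, F.map_comp, F.map_neg, Preadditive.comp_add]
    simp only [b, biprod.lift_desc, Preadditive.neg_comp, Preadditive.comp_neg]
    rw [← Category.assoc (μD iIU 1 m), ← Category.assoc (μD iIV 1 m), hι (inf_le_left : I ≤ U),
      hι (inf_le_right : I ≤ V), Category.assoc]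
    simp only [ι, Preadditive.neg_comp, Category.assoc]
    rfl
  obtain ⟨c, hc₂, hc₃⟩ := complete_distinguished_triangle_morphism _ _ hδ' hFδ (ι I) b hb
  have hcW : c = ι W := by
    refine (cancel_mono (lsecF N W m).hom).1 (ext_mvDesc m iU iV hI' hW' iIU iIV ?_)
    have h2 : mvDesc m iU iV ≫ c = b ≫ F.map (mvDesc m hU hV) := hc₂
    rw [← Category.assoc, h2]
    apply biprod.hom_ext'
    · simp only [b, biprod.inl_desc_assoc, Category.assoc, ← Functor.map_comp_assoc, biprod.inl_desc]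
      rw [← reassoc_of% (hι hU)]
    · simp only [b, biprod.inr_desc_assoc, Category.assoc, ← Functor.map_comp_assoc, biprod.inr_desc]
      rw [← reassoc_of% (hι hV)]
  let cm := (F.commShiftIso (1 : ℤ)).app
  have hδc : δ' ≫ (ι I)⟦(1 : ℤ)⟧' = ι W ≫ F.map δ ≫ (cm (sD I m)).hom := by
    rw [← hcW]
    exact hc₃
  let κ' : (F.obj E')⟦(1 : ℤ)⟧ ≅ F.obj E := (cm E').symm ≪≫ F.mapIso κ
  have hWQ : W' ≤ Q := inf_le_right
  let f₁ := mvQ φ m (E := E') inf_le_left inf_le_right hU hV hW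
  let f₂ := mvD φ m inf_le_left inf_le_right hU hV hW δ hδ κ le_rfl hWle
  let f₃ := mvP φ m (E := E) hU hV hW
  let f₄ := mvQ φ m (E := E) (inf_le_left : I ≤ U) (inf_le_right : I ≤ V) hU hV hW
  let g₁ := mvQ φ' m (E := F.obj E') iIU iIV iU iV hWQ
  let g₂ := mvD φ' m iIU iIV iU iV hWQ δ' hδ' κ' hI' hW'
  let g₃ := mvP φ' m (E := F.obj E) iU iV hWQ
  let g₄ := mvQ φ' m (E := F.obj E) iIU iIV iU iV hWQ
  let i₁ := ((psiD N hc U (hU.trans hW) m E').prodMap (psiD N hc V (hV.trans hW) m E')).comp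
    (TensorProduct.prodRight A B B _ _).toLinearMap
  let i₂ := psiD N hc I (inf_le_left.trans (hU.trans hW)) m E'
  let i₃ := psiD N hc W hW m E
  let i₄ := ((psiD N hc U (hU.trans hW) m E).prodMap (psiD N hc V (hV.trans hW) m E)).comp
    (TensorProduct.prodRight A B B _ _).toLinearMap
  let i₅ := psiD N hc I (inf_le_left.trans (hU.trans hW)) m E
  have hc₁ : g₁.comp i₁ = i₂.comp (f₁.baseChange B) := by
    refine TensorProduct.AlgebraTensorModule.ext fun t z => ?_
    obtain ⟨x, y⟩ := z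
    show g₁ (psiD N hc U _ m E' (t ⊗ₜ x), psiD N hc V _ m E' (t ⊗ₜ y)) =
      psiD N hc I _ m E' (t ⊗ₜ f₁ (x, y))
    rw [psiD_tmul, psiD_tmul, psiD_tmul, ← Prod.smul_mk, map_smul]
    refine congrArg (t • ·) ?_
    refine Eq.trans ?_ (map_sub (psi0 N hc I (inf_le_left.trans (hU.trans hW)) m E') _ _).symm
    exact congrArg₂ (· - ·) (resHom_psi0 N hc inf_le_left (hU.trans hW) m E' x)
      (resHom_psi0 N hc inf_le_right (hV.trans hW) m E' y)
  have hc₂' : g₂.comp i₂ = i₃.comp (f₂.baseChange B) := by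
    refine TensorProduct.AlgebraTensorModule.ext fun t z => ?_
    show g₂ (psiD N hc I _ m E' (t ⊗ₜ z)) = psiD N hc W hW m E (t ⊗ₜ f₂ z)
    rw [psiD_tmul, psiD_tmul, map_smul]
    refine congrArg (t • ·) ?_
    show δ' ≫ (μD _ 1 m ≫ (lsecF N I m).inv ≫ F.map z.out)⟦(1 : ℤ)⟧' ≫ κ'.hom =
      μD _ 1 m ≫ (lsecF N W m).inv ≫ F.map (δ ≫ z.out⟦(1 : ℤ)⟧' ≫ κ.hom)
    rw [← Category.assoc (μD _ 1 m), Functor.map_comp (shiftFunctor _ (1 : ℤ)),
      Category.assoc, reassoc_of% hδc]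
    simp only [F.map_comp, ι, Category.assoc, κ', Iso.trans_hom, Iso.symm_hom, Functor.mapIso_hom]
    refine congrArg (μD _ 1 m ≫ (lsecF N W m).inv ≫ F.map δ ≫ ·) ?_
    rw [← Category.assoc, ← Category.assoc]
    refine congrArg (· ≫ F.map κ.hom) ?_
    rw [Category.assoc]
    rw [← Category.assoc, Iso.comp_inv_eq]
    exact ((F.commShiftIso (1 : ℤ)).hom.naturality z.out).symm
  have hc₃ : g₃.comp i₃ = i₄.comp (f₃.baseChange B) := by
    refine TensorProduct.AlgebraTensorModule.ext fun t z => ?_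
    show g₃ (psiD N hc W hW m E (t ⊗ₜ z)) =
      (psiD N hc U _ m E (t ⊗ₜ (f₃ z).1), psiD N hc V _ m E (t ⊗ₜ (f₃ z).2))
    rw [psiD_tmul, psiD_tmul, psiD_tmul, map_smul, ← Prod.smul_mk]
    refine congrArg (t • ·) ?_
    exact Prod.ext (resHom_psi0 N hc hU hW m E z) (resHom_psi0 N hc hV hW m E z)
  have hc₄ : g₄.comp i₄ = i₅.comp (f₄.baseChange B) := by
    refine TensorProduct.AlgebraTensorModule.ext fun t z => ?_
    obtain ⟨x, y⟩ := z
    show g₄ (psiD N hc U _ m E (t ⊗ₜ x), psiD N hc V _ m E (t ⊗ₜ y)) =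
      psiD N hc I _ m E (t ⊗ₜ f₄ (x, y))
    rw [psiD_tmul, psiD_tmul, psiD_tmul, ← Prod.smul_mk, map_smul]
    refine congrArg (t • ·) ?_
    refine Eq.trans ?_ (map_sub (psi0 N hc I (inf_le_left.trans (hU.trans hW)) m E) _ _).symm
    exact congrArg₂ (· - ·) (resHom_psi0 N hc inf_le_left (hU.trans hW) m E x)
      (resHom_psi0 N hc inf_le_right (hV.trans hW) m E y)
  refine LinearMap.bijective_of_surjective_of_bijective_of_bijective_of_injective
    (f₁.baseChange B) (f₂.baseChange B) (f₃.baseChange B) (f₄.baseChange B) g₁ g₂ g₃ g₄ i₁ i₂ i₃ i₄ i₅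
    hc₁ hc₂' hc₃ hc₄ ?_ ?_ ?_
    (exact_mvQ_mvD φ' m iIU iIV iU iV hWQ δ' hδ' κ' hI' hW')
    (exact_mvD_mvP φ' m iIU iIV iU iV hWQ δ' hδ' κ' hI' hW')
    (exact_mvP_mvQ φ' m iIU iIV iU iV hWQ δ' hδ' hI' hW') ?_ h₁ ?_ h₅.1
  · exact Module.Flat.lTensor_exact B
      (exact_mvQ_mvD φ m inf_le_left inf_le_right hU hV hW δ hδ κ le_rfl hWle)
  · exact Module.Flat.lTensor_exact B
      (exact_mvD_mvP φ m inf_le_left inf_le_right hU hV hW δ hδ κ le_rfl hWle)
  · exact Module.Flat.lTensor_exact B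
      (exact_mvP_mvQ φ m inf_le_left inf_le_right hU hV hW δ hδ le_rfl hWle)
  · exact ((h₂.prodMap h₂').comp (TensorProduct.prodRight A B B _ _).bijective).2
  · exact (h₄.prodMap h₄').comp (TensorProduct.prodRight A B B _ _).bijective

omit κ in
/-- Flat base change for all quasi-compact opens. -/
theorem psiD_bijective (hqs : IsQuasiSeparated (T : Set X))
    (hbc : ∀ M : X.Modules, Coh.IsQCoh M → AffBC M hc)
    (hup : ∀ U : X.Opens, U ≤ T → IsAffineOpen U → IsAffineOpen (up g Q U))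
    (U : X.Opens) (h : U ≤ T) (hU : IsCompact (U : Set X)) (m : ℤ) {E : DCoh.D X}
    (hE : DCoh.IsQCohD E) : Function.Bijective (psiD N hc U h m E) := by
  classical
  let P : X.Opens → Prop := fun W => ∀ (hW : W ≤ T) (m : ℤ) (E : DCoh.D X), DCoh.IsQCohD E →
    Function.Bijective (psiD N hc W hW m E)
  have mv : ∀ V₁ V₂ : X.Opens, P V₁ → P V₂ → P (V₁ ⊓ V₂) → P (V₁ ⊔ V₂) := by
    intro V₁ V₂ p₁ p₂ p₁₂ hW m E hE
    have hE' : DCoh.IsQCohD (E⟦(-1 : ℤ)⟧) := isQCohD_shift hE (-1)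
    let κ : (E⟦(-1 : ℤ)⟧)⟦(1 : ℤ)⟧ ≅ E :=
      (shiftFunctorCompIsoId (DCoh.D X) (-1 : ℤ) 1 (by omega)).app E
    exact psiD_bijective_mv N hc κ le_sup_left le_sup_right hW le_rfl m (p₁₂ _ m _ hE') (p₁ _ m _ hE')
      (p₂ _ m _ hE') (p₁ _ m _ hE) (p₂ _ m _ hE) (p₁₂ _ m _ hE)
  have haff : ∀ W : X.Opens, IsAffineOpen W → P W := fun W hW hWT m E hE =>
    psiD_bijective_affine N hc hbc hup W hWT hW m hE
  have hbot : P ⊥ := haff ⊥ (isAffineOpen_bot X)
  -- quasi-compact opens inside one affine open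
  have hone : ∀ W : X.Opens, IsCompact (W : Set X) →
      (∃ a : X.Opens, IsAffineOpen a ∧ W ≤ a) → P W := by
    rintro W hW ⟨a, ha, hWa⟩
    have key : ∀ (n : ℕ) (l : List Γ(X, a)), l.length = n →
        P (l.foldr (fun f V => X.basicOpen f ⊔ V) ⊥) := by
      intro n
      induction n with
      | zero => intro l hl; rw [List.length_eq_zero_iff] at hl; subst hl; exact hbot
      | succ n ih =>
        intro l hl
        obtain ⟨f, l', rfl⟩ : ∃ f l', l = f :: l' := by
          cases l with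
          | nil => simp at hl
          | cons f l' => exact ⟨f, l', rfl⟩
        have hl' : l'.length = n := by simpa using hl
        refine mv _ _ (haff _ (ha.basicOpen f)) (ih l' hl') ?_
        have e : ∀ k : List Γ(X, a), X.basicOpen f ⊓ k.foldr (fun f V => X.basicOpen f ⊔ V) ⊥ =
            (k.map (f * ·)).foldr (fun f V => X.basicOpen f ⊔ V) ⊥ := fun k => by
          induction k with
          | nil => simp
          | cons c k ihk => simp only [List.foldr_cons, List.map_cons, inf_sup_left, ihk, Scheme.basicOpen_mul]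
        rw [e]
        exact ih _ (by simpa using hl')
    have hcov : ∀ x : W, ∃ f : Γ(X, a), X.basicOpen f ≤ W ∧ x.1 ∈ X.basicOpen f := fun x =>
      ha.exists_basicOpen_le x (hWa x.2)
    choose f hf hxf using hcov
    obtain ⟨s, hs⟩ := hW.elim_finite_subcover (fun x : W => (X.basicOpen (f x) : Set X))
      (fun x => (X.basicOpen (f x)).2) fun x hx => Set.mem_iUnion.2 ⟨⟨x, hx⟩, hxf ⟨x, hx⟩⟩
    have heq : W = (s.toList.map f).foldr (fun f V => X.basicOpen f ⊔ V) ⊥ := by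
      have hmem : ∀ (k : List Γ(X, a)) (x : X),
          x ∈ k.foldr (fun f V => X.basicOpen f ⊔ V) (⊥ : X.Opens) ↔ ∃ c ∈ k, x ∈ X.basicOpen c := by
        intro k x
        induction k with
        | nil => simp
        | cons c k ihk => simp [Opens.mem_sup, ihk]
      ext x
      rw [SetLike.mem_coe, SetLike.mem_coe, hmem]
      refine ⟨fun hx => ?_, fun ⟨c, hc, hxc⟩ => ?_⟩
      · obtain ⟨i, hi, hxi⟩ := Set.mem_iUnion₂.1 (hs hx)
        exact ⟨f i, List.mem_map.2 ⟨i, Finset.mem_toList.2 hi, rfl⟩, hxi⟩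
      · obtain ⟨i, -, rfl⟩ := List.mem_map.1 hc
        exact hf i hxc
    rw [heq]
    exact key _ _ rfl
  have main : U ≤ T → P U := compact_open_induction_on (P := fun W => W ≤ T → P W) U hU
    (fun _ => hbot) (fun S hS a ih hle => mv S a.1 (ih (le_sup_left.trans hle)) (haff a.1 a.2)
      (hone _ (hqs S.1 a.1.1 (SetLike.coe_subset_coe.2 (le_sup_left.trans hle)) S.2 hS
        (SetLike.coe_subset_coe.2 (le_sup_right.trans hle)) a.1.2 a.2.isCompact)
        ⟨a.1, a.2, inf_le_right⟩))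
  exact main h h m E hE

end Groth.Agent.RelPC13.BC
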