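import Groth.Agent.RelPC13.BC.SecD
import Mathlib.CategoryTheory.Triangulated.Yoneda
import Mathlib.Algebra.Homology.DerivedCategory.ShortExact
import Mathlib.LinearAlgebra.TensorProduct.Prod

/-! # Hom groups out of `j_! O_U` as modules, and their Mayer-Vietoris sequences -/

set_option linter.style.haveILetI false
set_option backward.isDefEq.respectTransparency false
set_option backward.isDefEq.respectTransparency.types false

universe u

open CategoryTheory CategoryTheory.Limits AlgebraicGeometry TopologicalSpace Opposite Pretriangulated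

attribute [local instance] HasDerivedCategory.standard

noncomputable section

namespace Groth.Agent.RelPC13.BC

open Groth.Agent.KFlatLib

variable {X : Scheme.{u}} {A : Type u} [CommRing A] {T : X.Opens} (φ : A →+* Γ(X, T))

lemma res_self {P : X.Opens} (r : Γ(X, P)) : X.presheaf.map (homOfLE (le_refl P)).op r = r :=
  ConcreteCategory.congr_hom (X.presheaf.map_id (op P)) r

/-- The scalar `a` on `j_! O_U[-m]`. -/
abbrev act {U : X.Opens} (h : U ≤ T) (m : ℤ) (a : A) : sD U m ⟶ sD U m :=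
  μD (le_refl U) (X.presheaf.map (homOfLE h).op (φ a)) m

lemma act_one {U : X.Opens} (h : U ≤ T) (m : ℤ) : act φ h m 1 = 𝟙 _ := by
  rw [act, map_one, map_one, μD_one]

lemma act_mul {U : X.Opens} (h : U ≤ T) (m : ℤ) (a b : A) :
    act φ h m (a * b) = act φ h m a ≫ act φ h m b := by
  rw [act, act, act, μD_comp, map_mul, map_mul]
  congr 1
  rw [res_self]

lemma act_μD {U U' : X.Opens} (h : U ≤ T) (i : U' ≤ U) (r : Γ(X, U')) (m : ℤ) (a : A) :
    act φ (i.trans h) m a ≫ μD i r m = μD i r m ≫ act φ h m a := by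
  rw [μD_comp, μD_comp]
  congr 1
  rw [mul_comm]
  rw [res_self]
  exact congrArg (r * ·) (ConcreteCategory.congr_hom (X.presheaf.map_comp (homOfLE h).op (homOfLE i).op) (φ a))

/-- `Hom(j_! O_U[-m], E)`. -/
def HomAt (U : X.Opens) (_h : U ≤ T) (m : ℤ) (E : DCoh.D X) (_φ : A →+* Γ(X, T)) : Type (u + 1) :=
  sD U m ⟶ E

variable (U : X.Opens) (h : U ≤ T) (m : ℤ) (E : DCoh.D X)

instance : AddCommGroup (HomAt U h m E φ) := inferInstanceAs (AddCommGroup (sD U m ⟶ E))

/-- The morphism behind an element. -/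
abbrev HomAt.out (x : HomAt U h m E φ) : sD U m ⟶ E := x

instance : Module A (HomAt U h m E φ) where
  smul a x := act φ h m a ≫ x.out
  one_smul x := (congrArg (· ≫ x.out) (act_one φ h m)).trans (Category.id_comp _)
  mul_smul a b x := (congrArg (· ≫ x.out) (act_mul φ h m a b)).trans (Category.assoc _ _ _)
  smul_zero a := comp_zero
  smul_add a x y := Preadditive.comp_add _ _ _ _ _ _
  add_smul a b x := (congrArg (· ≫ x.out) (show act φ h m (a + b) = act φ h m a + act φ h m b by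
    rw [act, map_add, map_add, μD_add])).trans (Preadditive.add_comp _ _ _ _ _ _)
  zero_smul x := (congrArg (· ≫ x.out) (show act φ h m 0 = 0 by
    rw [act, map_zero, map_zero, μD_zero])).trans zero_comp

lemma smul_def (a : A) (x : HomAt U h m E φ) : (a • x).out = act φ h m a ≫ x.out := rfl

variable {U}

/-- Precomposition with the transition map. -/
def resHom {U' : X.Opens} (i : U' ≤ U) (h' : U' ≤ T) :
    HomAt U h m E φ →ₗ[A] HomAt U' h' m E φ where
  toFun x := μD i 1 m ≫ x.out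
  map_add' x y := Preadditive.comp_add _ _ _ _ _ _
  map_smul' a x := by
    show μD i 1 m ≫ act φ h m a ≫ x.out = act φ (i.trans h) m a ≫ μD i 1 m ≫ x.out
    rw [← Category.assoc, ← act_μD φ h i 1 m a, Category.assoc]

section MV

variable {I V W : X.Opens} (hIU : I ≤ U) (hIV : I ≤ V) (hU : U ≤ W) (hV : V ≤ W) (hW : W ≤ T)

/-- The first map of the Mayer-Vietoris triangle. -/
abbrev mvLift : sD I m ⟶ sD U m ⊞ sD V m := biprod.lift (μD hIU 1 m) (-μD hIV 1 m)

/-- The second map of the Mayer-Vietoris triangle. -/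
abbrev mvDesc : sD U m ⊞ sD V m ⟶ sD W m := biprod.desc (μD hU 1 m) (μD hV 1 m)

theorem exists_mvTriangle (hI : U ⊓ V ≤ I) (hT : W ≤ U ⊔ V) :
    ∃ δ : sD W m ⟶ (sD I m)⟦(1 : ℤ)⟧,
      Triangle.mk (mvLift m hIU hIV) (mvDesc m hU hV) δ ∈ distTriang (DCoh.D X) := by
  let S := DerivedCategory.singleFunctor X.Modules m
  let C := HomologicalComplex.single X.Modules (ComplexShape.up ℤ) m
  haveI : S.Additive := inferInstance
  have hs := mvSeq_shortExact hIU hIV hU hV hI hT
  have hC : ((mvSeq hIU hIV hU hV).map C).ShortExact := hs.map_of_exact C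
  let σ := DerivedCategory.singleFunctorIsoCompQ X.Modules m
  haveI := preservesBinaryBiproducts_of_preservesBinaryCoproducts S
  let e := S.mapBiprod (secObj U) (secObj V)
  have hT₀ : Triangle.mk (S.map (mvSeq hIU hIV hU hV).f) (S.map (mvSeq hIU hIV hU hV).g)
      (σ.hom.app _ ≫ DerivedCategory.triangleOfSESδ hC ≫ (σ.inv.app _)⟦(1 : ℤ)⟧') ∈
      distTriang (DCoh.D X) := by
    refine isomorphic_distinguished _ (DerivedCategory.triangleOfSES_distinguished hC) _ ?_
    refine Triangle.isoMk _ _ (σ.app _) (σ.app _) (σ.app _) (σ.hom.naturality _) (σ.hom.naturality _) ?_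
    simp only [Triangle.mk_mor₃, DerivedCategory.triangleOfSES_mor₃, Category.assoc, ← Functor.map_comp,
      Iso.app_hom, Iso.inv_hom_id_app]
    erw [CategoryTheory.Functor.map_id, Category.comp_id]
  refine ⟨σ.hom.app _ ≫ DerivedCategory.triangleOfSESδ hC ≫ (σ.inv.app _)⟦(1 : ℤ)⟧',
    isomorphic_distinguished _ hT₀ _ ?_⟩
  refine Triangle.isoMk _ _ (Iso.refl _) e.symm (Iso.refl _) ?_ ?_ ?_
  · show mvLift m hIU hIV ≫ e.inv = 𝟙 _ ≫ S.map (mvSeq hIU hIV hU hV).f
    rw [Category.id_comp, Iso.comp_inv_eq, Functor.mapBiprod_hom]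
    apply biprod.hom_ext <;> simp [mvSeq, ← Functor.map_comp, μD, S]
  · show mvDesc m hU hV ≫ 𝟙 _ = e.inv ≫ S.map (mvSeq hIU hIV hU hV).g
    rw [Category.comp_id, Functor.mapBiprod_inv]
    apply biprod.hom_ext' <;> simp [mvSeq, ← Functor.map_comp, μD, S]
  · simp only [Iso.refl_hom, Triangle.mk_mor₃]
    erw [CategoryTheory.Functor.map_id, Category.comp_id, Category.id_comp]
    exact (Category.comp_id _).trans (Category.id_comp _).symm

/-- Maps out of the union are determined on the two opens. -/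
theorem ext_mvDesc (hI : U ⊓ V ≤ I) (hT : W ≤ U ⊔ V) (hIU : I ≤ U) (hIV : I ≤ V) {W' : X.Opens}
    {a b : sD W m ⟶ sD W' m} (h : mvDesc m hU hV ≫ a = mvDesc m hU hV ≫ b) : a = b := by
  obtain ⟨a₀, rfl⟩ := exists_single_map_eq a
  obtain ⟨b₀, rfl⟩ := exists_single_map_eq b
  let S := DerivedCategory.singleFunctor X.Modules m
  have h1 := congrArg (biprod.inl ≫ ·) h
  have h2 := congrArg (biprod.inr ≫ ·) h
  simp only [mvDesc, biprod.inl_desc_assoc, biprod.inr_desc_assoc, μD, ← Functor.map_comp] at h1 h2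
  haveI := (mvSeq_shortExact hIU hIV hU hV hI hT).epi_g
  refine congrArg S.map ((cancel_epi (mvSeq hIU hIV hU hV).g).1 ?_)
  apply biprod.hom_ext'
  · simp only [mvSeq, biprod.inl_desc_assoc]
    exact S.map_injective h1
  · simp only [mvSeq, biprod.inr_desc_assoc]
    exact S.map_injective h2

variable (δ : sD W m ⟶ (sD I m)⟦(1 : ℤ)⟧)
  (hδ : Triangle.mk (mvLift m hIU hIV) (mvDesc m hU hV) δ ∈ distTriang (DCoh.D X))

include hδ in
theorem act_δ (hI : U ⊓ V ≤ I) (hT : W ≤ U ⊔ V) (a : A) :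
    act φ hW m a ≫ δ = δ ≫ (act φ (hIU.trans (hU.trans hW)) m a)⟦(1 : ℤ)⟧' := by
  let a₁ := act φ (hIU.trans (hU.trans hW)) m a
  let a₂ : sD U m ⊞ sD V m ⟶ sD U m ⊞ sD V m :=
    biprod.map (act φ (hU.trans hW) m a) (act φ (hV.trans hW) m a)
  have h1 : mvLift m hIU hIV ≫ a₂ = a₁ ≫ mvLift m hIU hIV := by
    apply biprod.hom_ext
    · simp only [a₂, a₁, Category.assoc, biprod.map_fst, biprod.lift_fst_assoc, biprod.lift_fst]
      exact (act_μD φ (hU.trans hW) hIU 1 m a).symm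
    · simp only [a₂, a₁, Category.assoc, biprod.map_snd, biprod.lift_snd_assoc, biprod.lift_snd,
        Preadditive.neg_comp, Preadditive.comp_neg]
      exact congrArg Neg.neg (act_μD φ (hV.trans hW) hIV 1 m a).symm
  obtain ⟨c, hc₂, hc₃⟩ := complete_distinguished_triangle_morphism _ _ hδ hδ a₁ a₂ h1
  have hc : c = act φ hW m a := by
    refine ext_mvDesc m hU hV hI hT hIU hIV (hc₂.trans ?_)
    show a₂ ≫ mvDesc m hU hV = mvDesc m hU hV ≫ act φ hW m a
    apply biprod.hom_ext'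
    · simp only [a₂, biprod.inl_map_assoc, biprod.inl_desc_assoc, biprod.inl_desc]
      exact act_μD φ hW hU 1 m a
    · simp only [a₂, biprod.inr_map_assoc, biprod.inr_desc_assoc, biprod.inr_desc]
      exact act_μD φ hW hV 1 m a
  rw [← hc]
  exact hc₃.symm

variable {E} {E' : DCoh.D X} (κ : E'⟦(1 : ℤ)⟧ ≅ E)

/-- Restriction to the two opens. -/
def mvP : HomAt W hW m E φ →ₗ[A] HomAt U (hU.trans hW) m E φ × HomAt V (hV.trans hW) m E φ :=
  (resHom φ hW m E hU _).prod (resHom φ hW m E hV _)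

/-- The difference on the intersection. -/
def mvQ : HomAt U (hU.trans hW) m E φ × HomAt V (hV.trans hW) m E φ →ₗ[A]
    HomAt I (hIU.trans (hU.trans hW)) m E φ :=
  (resHom φ (hU.trans hW) m E hIU _).comp (LinearMap.fst A _ _) -
    (resHom φ (hV.trans hW) m E hIV _).comp (LinearMap.snd A _ _)

/-- The connecting map. -/
def mvD (hI : U ⊓ V ≤ I) (hT : W ≤ U ⊔ V) :
    HomAt I (hIU.trans (hU.trans hW)) m E' φ →ₗ[A] HomAt W hW m E φ where
  toFun y := δ ≫ y.out⟦(1 : ℤ)⟧' ≫ κ.hom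
  map_add' x y := by
    show δ ≫ (x.out + y.out)⟦(1 : ℤ)⟧' ≫ κ.hom = _
    rw [Functor.map_add, Preadditive.add_comp, Preadditive.comp_add]
  map_smul' a y := by
    show δ ≫ (act φ _ m a ≫ y.out)⟦(1 : ℤ)⟧' ≫ κ.hom = act φ hW m a ≫ δ ≫ y.out⟦(1 : ℤ)⟧' ≫ κ.hom
    rw [Functor.map_comp, ← Category.assoc (act φ hW m a),
      act_δ φ m hIU hIV hU hV hW δ hδ hI hT a]
    simp only [Category.assoc]

include hδ in
theorem exact_mvP_mvQ (hI : U ⊓ V ≤ I) (hT : W ≤ U ⊔ V) :
    Function.Exact (mvP φ m (E := E) hU hV hW) (mvQ φ m (E := E) hIU hIV hU hV hW) := by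
  rintro ⟨x, y⟩
  let w : sD U m ⊞ sD V m ⟶ E := biprod.desc x.out y.out
  constructor
  · intro hxy
    have h0 : mvLift m hIU hIV ≫ w = 0 := by
      simp only [w, biprod.lift_desc, Preadditive.neg_comp]
      rw [← sub_eq_add_neg]
      exact hxy
    obtain ⟨z, hz⟩ := Triangle.yoneda_exact₂ _ hδ w h0
    refine ⟨z, Prod.ext ?_ ?_⟩
    · have := congrArg (biprod.inl ≫ ·) hz
      simp only [w, biprod.inl_desc, Triangle.mk_mor₂, biprod.inl_desc_assoc] at this
      exact this.symm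
    · have := congrArg (biprod.inr ≫ ·) hz
      simp only [w, biprod.inr_desc, Triangle.mk_mor₂, biprod.inr_desc_assoc] at this
      exact this.symm
  · rintro ⟨z, hz⟩
    obtain ⟨rfl, rfl⟩ := Prod.ext_iff.1 hz
    have := congrArg (· ≫ z.out) (comp_distTriang_mor_zero₁₂ _ hδ)
    simp only [Triangle.mk_mor₁, Triangle.mk_mor₂, biprod.lift_desc, Preadditive.add_comp, zero_comp,
      Preadditive.neg_comp, Category.assoc] at this
    show μD hIU 1 m ≫ μD hU 1 m ≫ z.out - μD hIV 1 m ≫ μD hV 1 m ≫ z.out = 0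
    rw [sub_eq_add_neg]
    exact this

include hδ in
theorem exact_mvD_mvP (hI : U ⊓ V ≤ I) (hT : W ≤ U ⊔ V) :
    Function.Exact (mvD φ m hIU hIV hU hV hW δ hδ κ hI hT) (mvP φ m (E := E) hU hV hW) := by
  intro z
  constructor
  · intro hz
    obtain ⟨h1, h2⟩ := Prod.ext_iff.1 hz
    have h0 : mvDesc m hU hV ≫ z.out = 0 := by
      apply biprod.hom_ext'
      · rw [biprod.inl_desc_assoc, comp_zero]; exact h1
      · rw [biprod.inr_desc_assoc, comp_zero]; exact h2
    obtain ⟨w, hw⟩ := Triangle.yoneda_exact₃ _ hδ z.out h0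
    obtain ⟨y, hy⟩ := (shiftFunctor (DCoh.D X) (1 : ℤ)).map_surjective (w ≫ κ.inv)
    refine ⟨y, ?_⟩
    show δ ≫ y⟦(1 : ℤ)⟧' ≫ κ.hom = z.out
    rw [hy, Category.assoc, Iso.inv_hom_id, Category.comp_id]
    exact hw.symm
  · rintro ⟨y, rfl⟩
    have hh : mvDesc m hU hV ≫ δ = 0 := comp_distTriang_mor_zero₂₃ _ hδ
    refine Prod.ext ?_ ?_
    · have := congrArg (fun t => biprod.inl ≫ t ≫ y.out⟦(1 : ℤ)⟧' ≫ κ.hom) hh
      simp only [Category.assoc, biprod.inl_desc_assoc, zero_comp, comp_zero] at this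
      exact this
    · have := congrArg (fun t => biprod.inr ≫ t ≫ y.out⟦(1 : ℤ)⟧' ≫ κ.hom) hh
      simp only [Category.assoc, biprod.inr_desc_assoc, zero_comp, comp_zero] at this
      exact this

include hδ in
theorem exact_mvQ_mvD (hI : U ⊓ V ≤ I) (hT : W ≤ U ⊔ V) :
    Function.Exact (mvQ φ m (E := E') hIU hIV hU hV hW) (mvD φ m hIU hIV hU hV hW δ hδ κ hI hT) := by
  intro y
  constructor
  · intro hy
    have h0 : (Triangle.mk (mvLift m hIU hIV) (mvDesc m hU hV) δ).rotate.mor₂ ≫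
        y.out⟦(1 : ℤ)⟧' = 0 := by
      refine (cancel_mono κ.hom).1 ?_
      rw [zero_comp, Category.assoc]
      exact hy
    obtain ⟨w, hw⟩ := Triangle.yoneda_exact₃ _ (rot_of_distTriang _ hδ) (y.out⟦(1 : ℤ)⟧') h0
    obtain ⟨w', hw'⟩ := (shiftFunctor (DCoh.D X) (1 : ℤ)).map_surjective w
    have hy' : y.out = mvLift m hIU hIV ≫ (-w') := by
      refine (shiftFunctor (DCoh.D X) (1 : ℤ)).map_injective ?_
      rw [hw, Functor.map_comp, Functor.map_neg, hw']
      simp
    refine ⟨(biprod.inl ≫ (-w'), biprod.inr ≫ (-w')), ?_⟩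
    show μD hIU 1 m ≫ biprod.inl ≫ (-w') - μD hIV 1 m ≫ biprod.inr ≫ (-w') = y.out
    rw [hy', sub_eq_add_neg]
    simp only [← Category.assoc, ← Preadditive.neg_comp, ← Preadditive.add_comp]
    congr 1
    apply biprod.hom_ext <;> simp
  · rintro ⟨⟨x₁, x₂⟩, rfl⟩
    have hh : δ ≫ (mvLift m hIU hIV)⟦(1 : ℤ)⟧' = 0 := comp_distTriang_mor_zero₃₁ _ hδ
    show δ ≫ (μD hIU 1 m ≫ x₁.out - μD hIV 1 m ≫ x₂.out)⟦(1 : ℤ)⟧' ≫ κ.hom = 0
    have hv : μD hIU 1 m ≫ x₁.out - μD hIV 1 m ≫ x₂.out =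
        mvLift m hIU hIV ≫ biprod.desc x₁.out x₂.out := by simp [sub_eq_add_neg]
    rw [hv, Functor.map_comp, Category.assoc, reassoc_of% hh, zero_comp]

end MV

end Groth.Agent.RelPC13.BC
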