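import Groth.Agent.RelPC13.BC.SecYon
import Groth.Agent.KFlatLib.PsiC
import Groth.Agent.KFlatLib.Scheme.DQCohLimit
import Groth.Agent.KFlatLib.Scheme.PullTensorCx

/-! # `j_! O_V` in degree `m`, hom groups out of it, and its derived pullback -/

set_option linter.style.haveILetI false
set_option backward.isDefEq.respectTransparency false
set_option backward.isDefEq.respectTransparency.types false

universe u

open CategoryTheory CategoryTheory.Limits AlgebraicGeometry TopologicalSpace Opposite

attribute [local instance] HasDerivedCategory.standard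

noncomputable section

namespace Groth.Agent.RelPC13.BC

open Groth.Agent.KFlatLib

variable {X Y : Scheme.{u}}

/-- `j_! O_V` in degree `m`. -/
abbrev sD (V : X.Opens) (m : ℤ) : DCoh.D X :=
  (DerivedCategory.singleFunctor X.Modules m).obj (secObj V)

/-- The transition map in degree `m`. -/
abbrev μD {W T : X.Opens} (h : W ≤ T) (r : Γ(X, W)) (m : ℤ) : sD W m ⟶ sD T m :=
  (DerivedCategory.singleFunctor X.Modules m).map (μ h r)

lemma μD_comp {W U T : X.Opens} (h : W ≤ U) (h' : U ≤ T) (r : Γ(X, W)) (r' : Γ(X, U)) (m : ℤ) :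
    μD h r m ≫ μD h' r' m = μD (h.trans h') (r * X.presheaf.map (homOfLE h).op r') m := by
  rw [← Functor.map_comp, μ_comp]

lemma μD_one (V : X.Opens) (m : ℤ) : μD (le_refl V) 1 m = 𝟙 (sD V m) := by
  rw [μD, μ_one, CategoryTheory.Functor.map_id]

lemma μD_add {W T : X.Opens} (h : W ≤ T) (r r' : Γ(X, W)) (m : ℤ) :
    μD h (r + r') m = μD h r m + μD h r' m := by
  rw [μD, μ_add, Functor.map_add]

lemma μD_zero {W T : X.Opens} (h : W ≤ T) (m : ℤ) : μD h (0 : Γ(X, W)) m = 0 := by
  rw [μD, μ_zero, Functor.map_zero]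

/-- Morphisms between these objects in one degree come from modules. -/
lemma exists_single_map_eq {W T : X.Opens} {m : ℤ} (e : sD W m ⟶ sD T m) :
    ∃ a : secObj W ⟶ secObj T, (DerivedCategory.singleFunctor X.Modules m).map a = e :=
  (DerivedCategory.singleFunctor X.Modules m).map_surjective e

theorem exists_unit_of_isoD {V : X.Opens} {m : ℤ} (e : sD V m ≅ sD V m) :
    ∃ r : Γ(X, V)ˣ, μD le_rfl (r : Γ(X, V)) m = e.hom := by
  obtain ⟨r, hr⟩ := exists_unit_of_iso ((DerivedCategory.singleFunctor X.Modules m).preimageIso e)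
  exact ⟨r, by rw [μD, hr, Functor.preimageIso_hom, Functor.map_preimage]⟩

/-- The class in `Γ(V, H^m E)` of a morphism out of `j_! O_V[-m]`. -/
def hsec (V : X.Opens) (m : ℤ) (E : DCoh.D X) (φ : sD V m ⟶ E) : Γ(DCoh.HD E m, V) :=
  secHom V _ (psiC m (secObj V) E φ)

lemma hsec_add (V : X.Opens) (m : ℤ) (E : DCoh.D X) (φ ψ : sD V m ⟶ E) :
    hsec V m E (φ + ψ) = hsec V m E φ + hsec V m E ψ := by
  rw [hsec, hsec, hsec, ← secHom_add, psiC, psiC, psiC, Functor.map_add, Preadditive.comp_add]

lemma hsec_μD {W T : X.Opens} (h : W ≤ T) (r : Γ(X, W)) (m : ℤ) {E : DCoh.D X} (φ : sD T m ⟶ E) :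
    hsec W m E (μD h r m ≫ φ) = r • (DCoh.HD E m).presheaf.map (homOfLE h).op (hsec T m E φ) := by
  rw [hsec, μD, psiC_single_map, secHom_μ_comp]
  rfl

theorem hsec_bijective {V : X.Opens} (hV : IsAffineOpen V) (m : ℤ) {E : DCoh.D X}
    (hE : DCoh.IsQCohD E) : Function.Bijective (hsec V m E) := by
  refine (secHom_bijective V _).comp (bijective_psiC_of_shift ?_)
  exact bijH0_of_isQCohD (isQCohD_shift hE m) hV

lemma isKFlat_single_secObj (V : X.Opens) (m : ℤ) :
    DCoh.IsKFlat ((CochainComplex.singleFunctor X.Modules m).obj (secObj V)) := by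
  haveI : CochainComplex.IsStrictlyLE ((CochainComplex.singleFunctor X.Modules m).obj (secObj V)) m :=
    inferInstance
  exact isKFlat_of_isStrictlyLE _ m (isFlat_single m (isFlat_secObj V))

variable (f : X ⟶ Y) [DCoh.HasLpull f]

/-- The derived pullback of `j_! O_V[-m]`. -/
def lsec (V : Y.Opens) (m : ℤ) : (DCoh.Lpull f).obj (sD V m) ≅ sD (f ⁻¹ᵁ V) m :=
  (DCoh.Lpull f).mapIso ((DerivedCategory.singleFunctorIsoCompQ Y.Modules m).app (secObj V)) ≪≫
    lpullIso f (isKFlat_single_secObj V m) ≪≫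
    DerivedCategory.Q.mapIso ((HomologicalComplex.singleMapHomologicalComplex
      (Scheme.Modules.pullback f) (ComplexShape.up ℤ) m).app (secObj V) ≪≫
      (CochainComplex.singleFunctor X.Modules m).mapIso (pullSecIso f V)) ≪≫
    ((DerivedCategory.singleFunctorIsoCompQ X.Modules m).app _).symm

theorem lsec_naturality {W T : Y.Opens} (h : W ≤ T) (r : Γ(Y, W)) (m : ℤ) :
    (DCoh.Lpull f).map (μD h r m) ≫ (lsec f T m).hom =
      (lsec f W m).hom ≫ μD (f.preimage_mono h) (f.app W r) m := by
  let σY := DerivedCategory.singleFunctorIsoCompQ Y.Modules m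
  let σX := DerivedCategory.singleFunctorIsoCompQ X.Modules m
  let S := CochainComplex.singleFunctor Y.Modules m
  let S' := CochainComplex.singleFunctor X.Modules m
  let sm := HomologicalComplex.singleMapHomologicalComplex
      (Scheme.Modules.pullback f) (ComplexShape.up ℤ) m
  have h1 : (DCoh.Lpull f).map (μD h r m) ≫ (DCoh.Lpull f).map (σY.hom.app _) =
      (DCoh.Lpull f).map (σY.hom.app _) ≫ (DCoh.Lpull f).map (DerivedCategory.Q.map (S.map (μ h r))) := by
    rw [← Functor.map_comp, ← Functor.map_comp]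
    exact congrArg _ (σY.hom.naturality (μ h r))
  have h2 := (lpullComparison f).naturality (S.map (μ h r))
  have h3 : ((pullCx f).map (S.map (μ h r))) ≫ sm.hom.app _ ≫ S'.map (pullSecIso f T).hom =
      (sm.hom.app _ ≫ S'.map (pullSecIso f W).hom) ≫ S'.map (μ (f.preimage_mono h) (f.app W r)) := by
    rw [Category.assoc, ← Functor.map_comp, ← pullSecIso_naturality f h, Functor.map_comp, ← Category.assoc,
      ← Category.assoc]
    exact congrArg (· ≫ S'.map (pullSecIso f T).hom) (sm.hom.naturality (μ h r))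
  simp only [lsec, Iso.trans_hom, Functor.mapIso_hom, Iso.app_hom, Iso.symm_hom, Iso.app_inv,
    Category.assoc]
  rw [reassoc_of% h1]
  erw [reassoc_of% h2]
  have h4 : DerivedCategory.Q.map ((pullCx f).map (S.map (μ h r))) ≫
      DerivedCategory.Q.map (sm.hom.app _ ≫ S'.map (pullSecIso f T).hom) =
      DerivedCategory.Q.map (sm.hom.app _ ≫ S'.map (pullSecIso f W).hom) ≫
        DerivedCategory.Q.map (S'.map (μ (f.preimage_mono h) (f.app W r))) := by
    rw [← Functor.map_comp, ← Functor.map_comp, h3]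
  refine congrArg ((DCoh.Lpull f).map (σY.hom.app _) ≫ ·) (congrArg ((lpullIso f _).hom ≫ ·) ?_)
  erw [reassoc_of% h4]
  exact congrArg (_ ≫ ·) (σX.inv.naturality (μ (f.preimage_mono h) (f.app W r)))

end Groth.Agent.RelPC13.BC
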