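import Groth.Agent.KFlatLib.Scheme.AffineConservative
import Groth.Agent.KFlatLib.Scheme.MayerVietoris
import Groth.Agent.QCoh.PullbackBC

/-! # Yoneda for `j_! O_V`, its transition maps, the Mayer-Vietoris sequence and pullbacks -/

set_option linter.style.haveILetI false
set_option backward.isDefEq.respectTransparency false
set_option backward.isDefEq.respectTransparency.types false

universe u

open CategoryTheory CategoryTheory.Limits AlgebraicGeometry TopologicalSpace Opposite

noncomputable section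

namespace Groth.Agent.RelPC13.BC

open Groth.Agent.KFlatLib

variable {X Y : Scheme.{u}}

/-- The canonical section of `j_! O_V` over `V`. -/
def gen (V : X.Opens) : Γ(secObj V, V) :=
  (secObj V).presheaf.map (eqToHom V.ι_image_top.symm).op (secEquiv V (secObj V) (𝟙 _))

/-- Evaluation at the canonical section. -/
def secHom (V : X.Opens) (M : X.Modules) (φ : secObj V ⟶ M) : Γ(M, V) := φ.app V (gen V)

lemma secHom_eq (V : X.Opens) (M : X.Modules) (φ : secObj V ⟶ M) :
    secHom V M φ = M.presheaf.map (eqToHom V.ι_image_top.symm).op (secEquiv V M φ) := by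
  have h := secEquiv_naturality V (𝟙 _) φ
  rw [Category.id_comp] at h
  rw [h]
  exact ConcreteCategory.congr_hom (φ.mapPresheaf.naturality (eqToHom V.ι_image_top.symm).op) _

lemma secHom_bijective (V : X.Opens) (M : X.Modules) : Function.Bijective (secHom V M) := by
  rw [funext (secHom_eq V M)]
  exact (ConcreteCategory.bijective_of_isIso
    (M.presheaf.map (eqToHom V.ι_image_top.symm).op)).comp (secEquiv V M).bijective

/-- The map out of `j_! O_V` with a given section. -/
def secMk (V : X.Opens) {M : X.Modules} (a : Γ(M, V)) : secObj V ⟶ M :=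
  (Equiv.ofBijective _ (secHom_bijective V M)).symm a

@[simp] lemma secHom_secMk (V : X.Opens) {M : X.Modules} (a : Γ(M, V)) :
    secHom V M (secMk V a) = a :=
  (Equiv.ofBijective _ (secHom_bijective V M)).apply_symm_apply a

lemma secHom_comp (V : X.Opens) {M N : X.Modules} (φ : secObj V ⟶ M) (g : M ⟶ N) :
    secHom V N (φ ≫ g) = g.app V (secHom V M φ) := rfl

lemma secHom_id (V : X.Opens) : secHom V (secObj V) (𝟙 _) = gen V := rfl

lemma secHom_add (V : X.Opens) {M : X.Modules} (φ ψ : secObj V ⟶ M) :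
    secHom V M (φ + ψ) = secHom V M φ + secHom V M ψ := rfl

/-- The map `j_! O_W → j_! O_T` with coefficient `r`. -/
def μ {W T : X.Opens} (h : W ≤ T) (r : Γ(X, W)) : secObj W ⟶ secObj T :=
  secMk W (r • (secObj T).presheaf.map (homOfLE h).op (gen T))

lemma secHom_μ_comp {W T : X.Opens} (h : W ≤ T) (r : Γ(X, W)) {M : X.Modules} (φ : secObj T ⟶ M) :
    secHom W M (μ h r ≫ φ) = r • M.presheaf.map (homOfLE h).op (secHom T M φ) := by
  rw [secHom_comp, μ, secHom_secMk, Scheme.Modules.Hom.app_smul]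
  congr 1
  exact ConcreteCategory.congr_hom (φ.mapPresheaf.naturality (homOfLE h).op) (gen T)

lemma μ_comp {W U T : X.Opens} (h : W ≤ U) (h' : U ≤ T) (r : Γ(X, W)) (r' : Γ(X, U)) :
    μ h r ≫ μ h' r' = μ (h.trans h') (r * X.presheaf.map (homOfLE h).op r') := by
  apply (secHom_bijective W _).1
  rw [secHom_μ_comp, μ, μ, secHom_secMk, secHom_secMk, Scheme.Modules.map_smul, smul_smul]
  congr 1
  exact (ConcreteCategory.congr_hom ((secObj T).presheaf.map_comp (homOfLE h').op (homOfLE h).op) _).symm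

lemma μ_one (V : X.Opens) : μ (le_refl V) 1 = 𝟙 (secObj V) := by
  apply (secHom_bijective V _).1
  rw [μ, secHom_secMk, one_smul, secHom_id]
  exact ConcreteCategory.congr_hom ((secObj V).presheaf.map_id _) _

lemma μ_add {W T : X.Opens} (h : W ≤ T) (r r' : Γ(X, W)) : μ h (r + r') = μ h r + μ h r' := by
  apply (secHom_bijective W _).1
  rw [secHom_add, μ, μ, μ, secHom_secMk, secHom_secMk, secHom_secMk, add_smul]

lemma μ_zero {W T : X.Opens} (h : W ≤ T) : μ h (0 : Γ(X, W)) = 0 := by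
  apply (secHom_bijective W _).1
  rw [μ, secHom_secMk, zero_smul]
  rfl

/-- Every endomorphism of `j_! O_V` is a scalar. -/
theorem exists_μ_eq {V : X.Opens} (e : secObj V ⟶ secObj V) : ∃ r, μ le_rfl r = e := by
  let adj := CxOX.extZeroAdj V.ι
  haveI : IsIso (adj.unit.app (Coh.structureModule (V : Scheme.{u}))) :=
    inferInstanceAs (IsIso ((lshAdj V.ι).unit.app _))
  let η := adj.unit.app (Coh.structureModule (V : Scheme.{u}))
  let σ : Coh.structureModule (V : Scheme.{u}) ⟶ Coh.structureModule (V : Scheme.{u}) :=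
    (adj.homEquiv _ _) e ≫ inv η
  have hfac : (adj.homEquiv _ _) e = σ ≫ η := by simp [σ]
  have hid : (adj.homEquiv _ _) (𝟙 (secObj V)) = η := adj.homEquiv_id _
  let one' : Γ(X, V.ι ''ᵁ ⊤) := σ.app ⊤ (1 : Γ((V : Scheme.{u}), ⊤))
  have key : secEquiv V (secObj V) e = one' • secEquiv V (secObj V) (𝟙 _) := by
    have h1 : secEquiv V (secObj V) e = η.app ⊤ (σ.app ⊤ (1 : Γ((V : Scheme.{u}), ⊤))) := by
      show ((adj.homEquiv _ _) e).app ⊤ (1 : Γ((V : Scheme.{u}), ⊤)) = _
      rw [hfac]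
      rfl
    have h2 : secEquiv V (secObj V) (𝟙 _) = η.app ⊤ (1 : Γ((V : Scheme.{u}), ⊤)) := by
      show ((adj.homEquiv _ _) (𝟙 (secObj V))).app ⊤ (1 : Γ((V : Scheme.{u}), ⊤)) = _
      rw [hid]
      rfl
    rw [h1, h2]
    let c : Γ((V : Scheme.{u}), ⊤) := σ.app ⊤ (1 : Γ((V : Scheme.{u}), ⊤))
    refine Eq.trans (congrArg (fun t : Γ((V : Scheme.{u}), ⊤) => η.app ⊤ t) (mul_one c)).symm ?_
    refine (Scheme.Modules.Hom.app_smul η c (1 : Γ((V : Scheme.{u}), ⊤))).trans ?_
    show ((V.ι.appIso ⊤).inv c : Γ(X, V.ι ''ᵁ ⊤)) •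
      (show Γ(secObj V, V.ι ''ᵁ ⊤) from η.app ⊤ (1 : Γ((V : Scheme.{u}), ⊤))) = _
    rw [Scheme.Opens.ι_appIso]
    rfl
  refine ⟨X.presheaf.map (eqToHom V.ι_image_top.symm).op one', ?_⟩
  apply (secHom_bijective V _).1
  rw [μ, secHom_secMk, secHom_eq V _ e, key, Scheme.Modules.map_smul]
  congr 1
  exact ConcreteCategory.congr_hom ((secObj V).presheaf.map_id _) _

lemma μ_injective {V : X.Opens} {r r' : Γ(X, V)} (h : μ (le_refl V) r = μ (le_refl V) r') : r = r' := by
  let adj := CxOX.extZeroAdj V.ι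
  haveI : IsIso (adj.unit.app (Coh.structureModule (V : Scheme.{u}))) :=
    inferInstanceAs (IsIso ((lshAdj V.ι).unit.app _))
  let η := adj.unit.app (Coh.structureModule (V : Scheme.{u}))
  have hη : Function.Bijective (η.app ⊤) := ConcreteCategory.bijective_of_isIso _
  have h2 : secEquiv V (secObj V) (𝟙 _) = η.app ⊤ (1 : Γ((V : Scheme.{u}), ⊤)) := by
    show ((adj.homEquiv _ _) (𝟙 (secObj V))).app ⊤ (1 : Γ((V : Scheme.{u}), ⊤)) = _
    rw [adj.homEquiv_id]
    rfl
  have key : ∀ c : Γ((V : Scheme.{u}), ⊤), η.app ⊤ c = (show Γ(X, V.ι ''ᵁ ⊤) from c) •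
      secEquiv V (secObj V) (𝟙 _) := fun c => by
    rw [h2]
    refine Eq.trans (congrArg (fun t : Γ((V : Scheme.{u}), ⊤) => η.app ⊤ t) (mul_one c)).symm ?_
    refine (Scheme.Modules.Hom.app_smul η c (1 : Γ((V : Scheme.{u}), ⊤))).trans ?_
    show ((V.ι.appIso ⊤).inv c : Γ(X, V.ι ''ᵁ ⊤)) •
      (show Γ(secObj V, V.ι ''ᵁ ⊤) from η.app ⊤ (1 : Γ((V : Scheme.{u}), ⊤))) = _
    rw [Scheme.Opens.ι_appIso]
    rfl
  have e := congrArg (secHom V _) h
  rw [μ, μ, secHom_secMk, secHom_secMk] at e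
  have hid : (secObj V).presheaf.map (homOfLE (le_refl V)).op (gen V) = gen V :=
    ConcreteCategory.congr_hom ((secObj V).presheaf.map_id _) _
  rw [hid] at e
  let i := X.presheaf.map (eqToHom V.ι_image_top.symm).op
  have hi : Function.Bijective i := ConcreteCategory.bijective_of_isIso i
  obtain ⟨c, rfl⟩ := hi.2 r
  obtain ⟨c', rfl⟩ := hi.2 r'
  refine congrArg i (hη.1 ?_)
  rw [key, key]
  refine (ConcreteCategory.bijective_of_isIso
    ((secObj V).presheaf.map (eqToHom V.ι_image_top.symm).op)).1 ?_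
  rw [Scheme.Modules.map_smul, Scheme.Modules.map_smul]
  exact e

/-- Automorphisms of `j_! O_V` are units. -/
theorem exists_unit_of_iso {V : X.Opens} (e : secObj V ≅ secObj V) :
    ∃ r : Γ(X, V)ˣ, μ le_rfl (r : Γ(X, V)) = e.hom := by
  obtain ⟨r, hr⟩ := exists_μ_eq e.hom
  obtain ⟨r', hr'⟩ := exists_μ_eq e.inv
  have h : μ (le_refl V) (r * r') = μ (le_refl V) 1 := by
    rw [μ_one, ← e.hom_inv_id, ← hr, ← hr', μ_comp]
    congr 1
    exact congrArg (r * ·) (ConcreteCategory.congr_hom (X.presheaf.map_id _) r').symm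
  have h1 : r * r' = 1 := μ_injective h
  exact ⟨⟨r, r', h1, by rw [mul_comm]; exact h1⟩, hr⟩

/-- The transition map is an isomorphism on `W`. -/
theorem isIso_restrict_μ {W T : X.Opens} (h : W ≤ T) :
    IsIso ((Scheme.Modules.restrictFunctor W.ι).map (μ h 1)) := by
  refine isIso_iff_coyoneda_map_bijective _ |>.2 fun M => ?_
  let adj := Scheme.Modules.restrictAdjunction W.ι
  let N := (Scheme.Modules.pushforward W.ι).obj M
  have hb : Function.Bijective (fun φ : secObj T ⟶ N => μ h 1 ≫ φ) := by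
    have hres : Function.Bijective (fun a : Γ(N, T) => N.presheaf.map (homOfLE h).op a) := by
      have : W.ι ⁻¹ᵁ W = W.ι ⁻¹ᵁ T := by
        rw [Scheme.Opens.ι_preimage_self]
        exact (eq_top_iff.2 fun x _ => h x.2).symm
      haveI : IsIso (M.presheaf.map (homOfLE (W.ι.preimage_mono h)).op) := by
        rw [Subsingleton.elim (homOfLE (W.ι.preimage_mono h)) (eqToHom this)]
        infer_instance
      exact ConcreteCategory.bijective_of_isIso (M.presheaf.map (homOfLE (W.ι.preimage_mono h)).op)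
    refine (Function.Bijective.of_comp_iff' (secHom_bijective W N) _).1 ?_
    have : secHom W N ∘ (fun φ : secObj T ⟶ N => μ h 1 ≫ φ) =
        (fun a : Γ(N, T) => N.presheaf.map (homOfLE h).op a) ∘ secHom T N :=
      funext fun φ => (secHom_μ_comp h 1 φ).trans (one_smul _ _)
    rw [this]
    exact hres.comp (secHom_bijective T N)
  have hcomp : (fun φ => (Scheme.Modules.restrictFunctor W.ι).map (μ h 1) ≫ φ) ∘
      (adj.homEquiv (secObj T) M).symm =
      (adj.homEquiv (secObj W) M).symm ∘ (fun φ : secObj T ⟶ N => μ h 1 ≫ φ) :=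
    funext fun φ => (adj.homEquiv_naturality_left_symm _ _).symm
  refine (Function.Bijective.of_comp_iff _ (adj.homEquiv (secObj T) M).symm.bijective).1 ?_
  rw [hcomp]
  exact (adj.homEquiv (secObj W) M).symm.bijective.comp hb

theorem isZero_stalk_secObj {V : X.Opens} {x : X} (hx : x ∉ V) :
    IsZero ((DerSch.stalkFunctor X x).obj (secObj V)) :=
  isZero_stalk_lsh V.ι x (fun ⟨w, hw⟩ => hx (hw ▸ w.2)) _

theorem isIso_stalk_μ {W T : X.Opens} (h : W ≤ T) {x : X} (hx : x ∈ W ∨ x ∉ T) :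
    IsIso ((DerSch.stalkFunctor X x).map (μ h 1)) := by
  rcases hx with hx | hx
  · haveI := isIso_restrict_μ h
    have hb := ConcreteCategory.bijective_of_isIso ((DerSch.stalkFunctor (W : Scheme.{u}) ⟨x, hx⟩).map
      ((Scheme.Modules.restrictFunctor W.ι).map (μ h 1)))
    exact (ConcreteCategory.isIso_iff_bijective _).2
      ⟨injective_stalk_of_restrict W.ι _ ⟨x, hx⟩ hb.1, surjective_stalk_of_restrict W.ι _ ⟨x, hx⟩ hb.2⟩
  · exact ⟨0, (isZero_stalk_secObj fun hw => hx (h hw)).eq_of_src _ _,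
      (isZero_stalk_secObj hx).eq_of_src _ _⟩

/-- The Mayer-Vietoris short complex. -/
def mvSeq {I U V T : X.Opens} (hIU : I ≤ U) (hIV : I ≤ V) (hU : U ≤ T) (hV : V ≤ T) : ShortComplex X.Modules :=
  ShortComplex.mk (biprod.lift (μ hIU 1) (-μ hIV 1))
    (biprod.desc (μ hU 1) (μ hV 1)) (by simp [μ_comp])

theorem mvSeq_shortExact {I U V T : X.Opens} (hIU : I ≤ U) (hIV : I ≤ V) (hU : U ≤ T) (hV : V ≤ T)
    (hI : U ⊓ V ≤ I) (hT : T ≤ U ⊔ V) : (mvSeq hIU hIV hU hV).ShortExact := by
  rw [shortExact_iff_stalk]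
  intro x
  have hsq : μ hIU 1 ≫ μ hU 1 = μ hIV 1 ≫ μ hV 1 := by
    simp [μ_comp]
  by_cases hx : x ∈ U
  · exact shortExact_map_mv (DerSch.stalkFunctor X x) _ _ _ _ hsq
      (isIso_stalk_μ hIV ((Classical.em (x ∈ V)).imp (fun hv => hI ⟨hx, hv⟩) id))
      (isIso_stalk_μ hU (Or.inl hx))
  · have h1 := shortExact_map_mv (DerSch.stalkFunctor X x) _ _ _ _ hsq.symm
      (isIso_stalk_μ hIU (Or.inr hx))
      (isIso_stalk_μ hV ((Classical.em (x ∈ V)).imp id fun hv hxT =>
        hv (((Opens.mem_sup).1 (hT hxT)).resolve_left hx)))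
    refine ShortComplex.shortExact_of_iso ?_ h1
    let Φ := DerSch.stalkFunctor X x
    refine ShortComplex.isoMk (-(Iso.refl _)) (Φ.mapIso (biprod.braiding _ _)) (Iso.refl _) ?_ ?_
    · change (-(𝟙 _)) ≫ Φ.map (biprod.lift (μ hIU 1) (-μ hIV 1)) =
        Φ.map (biprod.lift (μ hIV 1) (-μ hIU 1)) ≫ Φ.map _
      rw [← Φ.map_comp, Preadditive.neg_comp, Category.id_comp, ← Φ.map_neg]
      refine congrArg Φ.map ?_
      apply biprod.hom_ext <;> simp
    · change Φ.map _ ≫ Φ.map (biprod.desc (μ hU 1) (μ hV 1)) = Φ.map (biprod.desc (μ hV 1) (μ hU 1)) ≫ 𝟙 _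
      rw [← Φ.map_comp, Category.comp_id]
      refine congrArg Φ.map ?_
      apply biprod.hom_ext' <;> simp

section Pullback

variable (f : X ⟶ Y)

/-- `f^* j_! O_V ⟶ j_! O_{f⁻¹V}`. -/
def pullSecHom (V : Y.Opens) : (Scheme.Modules.pullback f).obj (secObj V) ⟶ secObj (f ⁻¹ᵁ V) :=
  ((Scheme.Modules.pullbackPushforwardAdjunction f).homEquiv _ _).symm
    (secMk V (show Γ((Scheme.Modules.pushforward f).obj (secObj (f ⁻¹ᵁ V)), V) from gen (f ⁻¹ᵁ V)))

/-- The pullback of the canonical section. -/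
def pullGen (V : Y.Opens) : Γ((Scheme.Modules.pullback f).obj (secObj V), f ⁻¹ᵁ V) :=
  ((Scheme.Modules.pullbackPushforwardAdjunction f).unit.app (secObj V)).app V (gen V)

lemma pullSecHom_pullGen (V : Y.Opens) : (pullSecHom f V).app (f ⁻¹ᵁ V) (pullGen f V) = gen (f ⁻¹ᵁ V) := by
  let adj := Scheme.Modules.pullbackPushforwardAdjunction f
  have h : adj.unit.app (secObj V) ≫ (Scheme.Modules.pushforward f).map (pullSecHom f V) =
      secMk V (show Γ((Scheme.Modules.pushforward f).obj (secObj (f ⁻¹ᵁ V)), V) from gen (f ⁻¹ᵁ V)) :=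
    (adj.homEquiv_unit _ _ _).symm.trans (Equiv.apply_symm_apply _ _)
  exact (congrArg (secHom V _) h).trans (secHom_secMk V _)

instance isIso_pullSecHom (V : Y.Opens) : IsIso (pullSecHom f V) := by
  refine ⟨secMk _ (pullGen f V), ?_, ?_⟩
  · let adj := Scheme.Modules.pullbackPushforwardAdjunction f
    apply (adj.homEquiv _ _).injective
    apply (secHom_bijective V _).1
    rw [adj.homEquiv_naturality_right, adj.homEquiv_id, pullSecHom, Equiv.apply_symm_apply,
      secHom_comp, secHom_secMk]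
    exact secHom_secMk (f ⁻¹ᵁ V) _
  · apply (secHom_bijective _ _).1
    rw [secHom_comp, secHom_secMk, secHom_id]
    exact pullSecHom_pullGen f V

/-- `f^* j_! O_V ≅ j_! O_{f⁻¹V}`. -/
def pullSecIso (V : Y.Opens) : (Scheme.Modules.pullback f).obj (secObj V) ≅ secObj (f ⁻¹ᵁ V) :=
  asIso (pullSecHom f V)

/-- The transition maps pull back to the transition maps. -/
theorem pullSecIso_naturality {W T : Y.Opens} (h : W ≤ T) (r : Γ(Y, W)) :
    (Scheme.Modules.pullback f).map (μ h r) ≫ (pullSecIso f T).hom =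
      (pullSecIso f W).hom ≫ μ (f.preimage_mono h) (f.app W r) := by
  let adj := Scheme.Modules.pullbackPushforwardAdjunction f
  apply (adj.homEquiv _ _).injective
  apply (secHom_bijective W _).1
  rw [adj.homEquiv_naturality_left, adj.homEquiv_naturality_right]
  simp only [pullSecIso, asIso_hom, pullSecHom, adj, Equiv.apply_symm_apply]
  refine (secHom_μ_comp h r _).trans ?_
  rw [secHom_comp, secHom_secMk, secHom_secMk]
  exact (secHom_secMk (f ⁻¹ᵁ W) _).symm

/-- A map out of `j_! O_{g⁻¹V}` pulled back from `V`. -/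
theorem secHom_pullSecIso_inv_map (V : Y.Opens) {M : Y.Modules} (a : secObj V ⟶ M) {W : X.Opens}
    (h : W ≤ f ⁻¹ᵁ V) (r : Γ(X, W)) :
    secHom W _ (μ h r ≫ (pullSecIso f V).inv ≫ (Scheme.Modules.pullback f).map a) =
      r • QCoh.pullSec f M h (secHom V M a) := by
  rw [secHom_μ_comp, secHom_comp]
  have hinv : secHom (f ⁻¹ᵁ V) _ (pullSecIso f V).inv = pullGen f V := by
    apply (ConcreteCategory.bijective_of_isIso ((pullSecHom f V).app (f ⁻¹ᵁ V))).1
    refine Eq.trans ?_ (pullSecHom_pullGen f V).symm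
    exact (secHom_comp _ (pullSecIso f V).inv (pullSecHom f V)).symm.trans
      ((congrArg (secHom _ _) (pullSecIso f V).inv_hom_id).trans (secHom_id _))
  rw [hinv]
  refine congrArg (r • ·) (congrArg _ ?_)
  have := ConcreteCategory.congr_hom
    (congrArg (fun t => Scheme.Modules.Hom.app t V)
      ((Scheme.Modules.pullbackPushforwardAdjunction f).unit.naturality a)) (gen V)
  exact this.symm

end Pullback

end Groth.Agent.RelPC13.BC
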